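import Cfsg.Agent.Lib.GraphOrder.Edge

/-!
# Groups of order 7920: arithmetic cases for a connected prime graph
-/

set_option autoImplicit false

namespace Cfsg.Agent.GraphOrder

open Subgroup

/-- `f` is constant on components of the prime graph. -/
def Sep (G : Type*) [Group G] (f : ℕ → Bool) : Prop :=
  ∀ r s : ℕ, r.Prime → s.Prime → (∃ g : G, orderOf g = r * s) → f r = f s

/-- The four primes are in one component. -/
def Conn (f : ℕ → Bool) : Prop := f 2 = f 3 ∧ f 2 = f 5 ∧ f 2 = f 11

/-- The edge `r – s` is forced by a normal subgroup of order `d`. -/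
def edgeB (d r s : ℕ) : Bool :=
  decide (r ≠ s) && decide (r ∣ d) && (List.range 5).any (fun e => decide (s ^ e ∣ 7920 / d) &&
    (List.range 5).all (fun j => decide (j = 0) || decide (¬ r ^ j ∣ d) || decide (¬ s ^ e ∣ r ^ j - 1)))

/-- The forced edges connect `2, 3, 5, 11`. -/
def goodB (d : ℕ) : Bool :=
  [false, true].all fun a => [false, true].all fun b => [false, true].all fun c =>
    !(a || b || c) || ([(2, false), (3, a), (5, b), (11, c)].any fun x =>
      [(2, false), (3, a), (5, b), (11, c)].any fun y => (x.2 != y.2) && edgeB d x.1 y.1)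

/-- Orders needing an extra argument. -/
def badList : List ℕ := [176, 528, 792, 990, 1320, 1584, 1980, 2640, 3960]

theorem divisor_cases : ∀ d ∈ Nat.divisors 7920,
    d = 1 ∨ d = 7920 ∨ d = 11 ∨ d = 16 ∨ d ∈ badList ∨ goodB d = true := by
  decide +kernel

theorem sylow_eleven_cases : ∀ n ∈ Nat.divisors 720, n % 11 = 1 → n ∈ [1, 12, 45, 144] := by decide +kernel
theorem sylow_five_cases : ∀ n ∈ Nat.divisors 1584, n % 5 = 1 → n ∈ [1, 6, 11, 16, 36, 66, 176, 396] := by
  decide +kernel

variable {G : Type*} [Group G] [Finite G] (hc : Nat.card G = 7920) {f : ℕ → Bool} (hf : Sep G f)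

include hc in
theorem sylow_card {p v : ℕ} [Fact p.Prime] (h1 : p ^ v ∣ 7920) (h2 : ¬ p ^ (v + 1) ∣ 7920)
    (P : Sylow p G) : Nat.card (P : Subgroup G) = p ^ v := by
  rw [show Nat.card (P : Subgroup G) = _ from P.card_eq_multiplicity, hc]
  congr 1
  rw [(Fact.out : p.Prime).pow_dvd_iff_le_factorization (by norm_num)] at h1 h2
  omega

include hc hf in
theorem conn_of_good (N : Subgroup G) [N.Normal] (h : goodB (Nat.card N) = true) : Conn f := by
  set d := Nat.card N with hd
  have hidx : N.index = 7920 / d := by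
    rw [← hc, ← N.card_mul_index, Nat.mul_div_cancel_left _ Nat.card_pos]
  have hd' : d ∣ 7920 := hc ▸ card_subgroup_dvd_card N
  have hedge : ∀ r ∈ [2, 3, 5, 11], ∀ s ∈ [2, 3, 5, 11], edgeB d r s = true → f r = f s := by
    intro r hr s hs he
    simp only [edgeB, Bool.and_eq_true, decide_eq_true_eq, List.any_eq_true, List.all_eq_true, List.mem_range,
      Bool.or_eq_true] at he
    obtain ⟨⟨hne, hrd⟩, e, -, hse, hall⟩ := he
    have hrp : r.Prime := by
      simp only [List.mem_cons, List.not_mem_nil, or_false] at hr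
      rcases hr with rfl | rfl | rfl | rfl <;> norm_num
    have hsp : s.Prime := by
      simp only [List.mem_cons, List.not_mem_nil, or_false] at hs
      rcases hs with rfl | rfl | rfl | rfl <;> norm_num
    refine hf r s hrp hsp (exists_pq_of_normal hrp hsp hne N hrd (e := e) (hidx ▸ hse) fun j hj1 hjd => ?_)
    have hj5 : j < 5 := by
      by_contra h5
      have h5' : r ^ 5 ∣ 7920 := ((pow_dvd_pow r (by omega : 5 ≤ j)).trans hjd).trans hd'
      simp only [List.mem_cons, List.not_mem_nil, or_false] at hr
      rcases hr with rfl | rfl | rfl | rfl <;> norm_num at h5'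
    rcases hall j hj5 with (h0 | h0) | h0
    · omega
    · exact absurd hjd h0
    · exact h0
  simp only [goodB, List.all_eq_true, Bool.or_eq_true, List.any_eq_true, Bool.and_eq_true] at h
  by_contra hconn
  have hmem : ∀ b : Bool, b ∈ [false, true] := by decide
  rcases h (f 3 != f 2) (hmem _) (f 5 != f 2) (hmem _) (f 11 != f 2) (hmem _) with hz | ⟨x, hx, y, hy, hxy, he⟩
  · refine hconn ?_
    cases h2 : f 2 <;> cases h3 : f 3 <;> cases h5 : f 5 <;> cases h11 : f 11 <;>
      simp_all [Conn]
  · have hx' : x.1 ∈ [2, 3, 5, 11] ∧ x.2 = (f x.1 != f 2) := by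
      simp only [List.mem_cons, List.not_mem_nil, or_false] at hx
      rcases hx with rfl | rfl | rfl | rfl <;> simp
    have hy' : y.1 ∈ [2, 3, 5, 11] ∧ y.2 = (f y.1 != f 2) := by
      simp only [List.mem_cons, List.not_mem_nil, or_false] at hy
      rcases hy with rfl | rfl | rfl | rfl <;> simp
    rw [hx'.2, hy'.2, hedge _ hx'.1 _ hy'.1 he] at hxy
    simp at hxy

include hf in
theorem edge_centralizer {p q : ℕ} (hp : p.Prime) (hq : q.Prime) (hpq : p ≠ q) (P : Subgroup G)
    (hP : Nat.card P = p) (hd : q ∣ Nat.card (centralizer (P : Set G))) : f p = f q :=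
  hf p q hp hq (exists_pq_centralizer hp hq hpq P hP hd)

include hc hf

theorem conn_eleven (N : Subgroup G) [N.Normal] (h : Nat.card N = 11) : Conn f := by
  have hnd := card_normalizer_dvd (by norm_num) N h
  rw [normalizer_eq_top, card_top, hc, show (11 : ℕ) - 1 = 10 from rfl] at hnd
  set C := centralizer (N : Set G)
  haveI : C.Normal := inferInstance
  have h2 : f 11 = f 2 := edge_centralizer hf (by norm_num) Nat.prime_two (by norm_num) N h (show 2 ∣ Nat.card C by omega)
  have h3 : f 11 = f 3 := edge_centralizer hf (by norm_num) Nat.prime_three (by norm_num) N h (show 3 ∣ Nat.card C by omega)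
  refine ⟨h2.symm.trans h3, ?_, h2.symm⟩
  by_cases h5 : 5 ∣ Nat.card C
  · exact h2.symm.trans (edge_centralizer hf (by norm_num) (by norm_num) (by norm_num) N h h5)
  · have hidx : 5 ∣ C.index := by
      have := C.card_mul_index
      rcases (Nat.Prime.dvd_mul (by norm_num : Nat.Prime 5)).1 (show 5 ∣ Nat.card C * C.index by
        rw [this, hc]; norm_num) with h' | h'
      · exact absurd h' h5
      · exact h'
    refine h2.symm.trans (h3.trans (hf 3 5 Nat.prime_three (by norm_num)
      (exists_pq_of_normal Nat.prime_three (by norm_num) (by norm_num) C (by omega) (e := 1)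
        (by rwa [pow_one]) fun j hj1 hjd => ?_)))
    have hj3 : j < 3 := by
      by_contra hh
      have h27 : 3 ^ 3 ∣ 7920 := ((pow_dvd_pow 3 (by omega : 3 ≤ j)).trans hjd).trans (hc ▸ card_subgroup_dvd_card C)
      norm_num at h27
    interval_cases j <;> norm_num

omit hf in
theorem card_normalizer_sylow {p : ℕ} [Fact p.Prime] (P : Sylow p G) :
    Nat.card (Sylow p G) * Nat.card (normalizer ((P : Subgroup G) : Set G)) = 7920 := by
  rw [P.card_eq_index_normalizer, mul_comm]
  exact (card_mul_index _).trans hc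

theorem conn_sylow_one {p : ℕ} [Fact p.Prime] {v : ℕ} (h1 : p ^ v ∣ 7920) (h2 : ¬ p ^ (v + 1) ∣ 7920)
    (hone : Nat.card (Sylow p G) = 1) (hd : p ^ v = 11 ∨ goodB (p ^ v) = true) : Conn f := by
  obtain ⟨P⟩ : Nonempty (Sylow p G) := inferInstance
  haveI : (P : Subgroup G).Normal := by
    rw [← normalizer_eq_top_iff]
    apply Subgroup.eq_top_of_card_eq
    have := card_normalizer_sylow hc P
    rw [hone, one_mul] at this
    rw [this, hc]
  rcases hd with h | h
  · exact conn_eleven hc hf (P : Subgroup G) ((sylow_card hc h1 h2 P).trans h)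
  · exact conn_of_good hc hf (P : Subgroup G) (by rw [sylow_card hc h1 h2 P]; exact h)

theorem conn_twelve [Fact (Nat.Prime 11)] (h : Nat.card (Sylow 11 G) = 12) : Conn f := by
  obtain ⟨P⟩ : Nonempty (Sylow 11 G) := inferInstance
  have hP : Nat.card (P : Subgroup G) = 11 := by rw [sylow_card hc (v := 1) (by norm_num) (by norm_num) P]; norm_num
  have hN := card_normalizer_sylow hc P
  rw [h] at hN
  have hnd := card_normalizer_dvd (by norm_num) (P : Subgroup G) hP
  set H := normalizer ((P : Subgroup G) : Set G)
  set C := centralizer ((P : Subgroup G) : Set G)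
  have hCd : Nat.card C ∣ Nat.card H := card_dvd_of_le (centralizer_le_normalizer _)
  have hH : Nat.card H = 660 := by omega
  rw [hH] at hnd hCd
  have h2 : f 11 = f 2 := edge_centralizer hf (by norm_num) Nat.prime_two (by norm_num) _ hP (show 2 ∣ Nat.card C by omega)
  have h3 : f 11 = f 3 := edge_centralizer hf (by norm_num) Nat.prime_three (by norm_num) _ hP (show 3 ∣ Nat.card C by omega)
  refine ⟨h2.symm.trans h3, ?_, h2.symm⟩
  by_cases h5 : 5 ∣ Nat.card C
  · exact h2.symm.trans (edge_centralizer hf (by norm_num) (by norm_num) (by norm_num) _ hP h5)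
  · set K := (normalizerMonoidHom (P : Subgroup G)).ker with hK
    have hKc : Nat.card K = Nat.card C := by
      rw [hK, normalizerMonoidHom_ker]
      exact Nat.card_congr (subgroupOfEquivOfLe (centralizer_le_normalizer _)).toEquiv
    have hidx : 5 ∣ K.index := by
      have := K.card_mul_index
      rw [hKc, hH] at this
      rcases (Nat.Prime.dvd_mul (by norm_num : Nat.Prime 5)).1 (show 5 ∣ Nat.card C * K.index by
        rw [this]; norm_num) with h' | h'
      · exact absurd h' h5
      · exact h'
    obtain ⟨g, hg⟩ := exists_pq_of_normal (G := H) Nat.prime_three (by norm_num : Nat.Prime 5) (by norm_num) K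
      (hKc ▸ (show 3 ∣ Nat.card C by omega)) (e := 1) (by rwa [pow_one]) fun j hj1 hjd => by
        have hj2 : j < 2 := by
          by_contra hh
          have h9 : 3 ^ 2 ∣ 660 := ((pow_dvd_pow 3 (by omega : 2 ≤ j)).trans (hKc ▸ hjd)).trans hCd
          norm_num at h9
        interval_cases j
        norm_num
    exact h2.symm.trans (h3.trans (hf 3 5 Nat.prime_three (by norm_num) ⟨g, by rw [orderOf_coe, hg]⟩))

end Cfsg.Agent.GraphOrder
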