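import Cfsg.Agent.Lib.GraphOrder.Basic7920
import Cfsg.Agent.Lib.SmallOrders.Count

/-!
# No normal subgroup of order 3960 with 45 Sylow 11- and 396 Sylow 5-subgroups
-/

set_option autoImplicit false

namespace Cfsg.Agent.GraphOrder

open Subgroup

variable {G : Type*} [Group G] [Finite G] {f : ℕ → Bool}

/-- The standing data of the count. -/
structure Data (G : Type*) [Group G] (f : ℕ → Bool) (N : Subgroup G) : Prop where
  card : Nat.card G = 7920
  sep : Sep G f
  nconn : ¬ Conn f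
  normal : N.Normal
  cardN : Nat.card N = 3960
  n11 : Nat.card (Sylow 11 G) = 45
  n5 : Nat.card (Sylow 5 G) = 396

theorem sylow_three_cases : ∀ n ∈ Nat.divisors 440, n % 3 = 1 → n ∈ [1, 4, 10, 22, 40, 55, 88, 220] := by
  decide +kernel

variable {N : Subgroup G} [Fact (Nat.Prime 11)] [Fact (Nat.Prime 5)] [Fact (Nat.Prime 3)] (D : Data G f N)

include D

theorem Data.mem_of_coprime_two {g : G} (hg : (orderOf g).Coprime 2) : g ∈ N := by
  haveI := D.normal
  have hidx : N.index = 2 := by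
    have := N.card_mul_index
    rw [D.cardN, D.card] at this
    omega
  have h1 : (g : G ⧸ N) ^ N.index = 1 := by rw [index_eq_card]; exact pow_card_eq_one'
  have h2 : (g : G ⧸ N) ^ orderOf g = 1 := by rw [← QuotientGroup.mk_pow, pow_orderOf_eq_one]; rfl
  rw [hidx] at h1
  have h3 := Nat.dvd_gcd (orderOf_dvd_of_pow_eq_one h2) (orderOf_dvd_of_pow_eq_one h1)
  rw [(hg : Nat.gcd (orderOf g) 2 = 1), Nat.dvd_one, orderOf_eq_one_iff, QuotientGroup.eq_one_iff] at h3
  exact h3

theorem Data.sylow_le {p v : ℕ} [Fact p.Prime] (hp : p ≠ 2) (h1 : p ^ v ∣ 7920) (h2 : ¬ p ^ (v + 1) ∣ 7920)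
    (P : Sylow p G) : (P : Subgroup G) ≤ N := fun g hg => by
  refine D.mem_of_coprime_two ?_
  have h := sylow_card D.card h1 h2 P
  have hd : orderOf g ∣ p ^ v := h ▸ (Subgroup.orderOf_mk g hg ▸ orderOf_dvd_natCard _)
  exact Nat.Coprime.coprime_dvd_left hd
    (Nat.Coprime.pow_left v ((Nat.coprime_primes Fact.out Nat.prime_two).2 hp))

theorem Data.card_sylow11 (P : Sylow 11 G) : Nat.card (P : Subgroup G) = 11 := by
  rw [sylow_card D.card (v := 1) (by norm_num) (by norm_num) P, pow_one]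

theorem Data.card_sylow5 (P : Sylow 5 G) : Nat.card (P : Subgroup G) = 5 := by
  rw [sylow_card D.card (v := 1) (by norm_num) (by norm_num) P, pow_one]

theorem Data.card_norm11 (P : Sylow 11 G) : Nat.card (normalizer ((P : Subgroup G) : Set G)) = 176 := by
  have := card_normalizer_sylow D.card P
  rw [D.n11] at this
  omega

theorem Data.card_norm5 (P : Sylow 5 G) : Nat.card (normalizer ((P : Subgroup G) : Set G)) = 20 := by
  have := card_normalizer_sylow D.card P
  rw [D.n5] at this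
  omega

/-- Part of `N` centralising a Sylow `11`-subgroup. -/
theorem Data.four_dvd_cent (P : Sylow 11 G) :
    4 ∣ Nat.card ↥(centralizer ((P : Subgroup G) : Set G) ⊓ N) := by
  haveI := D.normal
  have h := card_normalizer_dvd (by norm_num) (P : Subgroup G) (D.card_sylow11 P)
  rw [D.card_norm11 P] at h
  set C := centralizer ((P : Subgroup G) : Set G)
  have h1 : Nat.card ↥(C ⊓ N) * (C ⊓ N).relIndex C = Nat.card C := by
    rw [← relIndex_bot_left, ← relIndex_bot_left]
    exact relIndex_mul_relIndex ⊥ _ C bot_le inf_le_left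
  rw [inf_relIndex_left] at h1
  have h2 : N.relIndex C ∣ 2 := by
    have h0 := relIndex_dvd_index_of_normal N C
    have := N.card_mul_index
    rw [D.cardN, D.card] at this
    rwa [show N.index = 2 by omega] at h0
  rw [← h1] at h
  rcases (Nat.dvd_prime Nat.prime_two).1 h2 with e | e <;> rw [e] at h <;> omega

/-- A subgroup of order `4` in `C_N(P)`. -/
noncomputable def Data.K (P : Sylow 11 G) : Subgroup G :=
  haveI := Fact.mk Nat.prime_two
  (Sylow.exists_subgroup_card_pow_prime (G := ↥(centralizer ((P : Subgroup G) : Set G) ⊓ N)) 2 (n := 2)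
    (D.four_dvd_cent P)).choose.map (Subgroup.subtype _)

theorem Data.K_spec (P : Sylow 11 G) :
    Nat.card (D.K P) = 4 ∧ D.K P ≤ centralizer ((P : Subgroup G) : Set G) ⊓ N := by
  haveI := Fact.mk Nat.prime_two
  refine ⟨?_, map_subtype_le _⟩
  rw [Data.K, card_map_of_injective (subtype_injective _)]
  exact (Sylow.exists_subgroup_card_pow_prime (G := ↥(centralizer ((P : Subgroup G) : Set G) ⊓ N)) 2 (n := 2)
    (D.four_dvd_cent P)).choose_spec

theorem Data.K_pow (P : Sylow 11 G) {k : G} (hk : k ∈ D.K P) : k ^ 4 = 1 := by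
  have h0 : (⟨k, hk⟩ : D.K P) ^ Nat.card (D.K P) = 1 := pow_card_eq_one'
  rw [(D.K_spec P).1] at h0
  exact congrArg Subtype.val h0

theorem Data.K_commute (P : Sylow 11 G) {k x : G} (hk : k ∈ D.K P) (hx : x ∈ (P : Subgroup G)) : Commute x k :=
  mem_centralizer_iff.1 ((D.K_spec P).2 hk).1 x hx

theorem Data.sylow_eq_of_mem {P P' : Sylow 11 G} {x : G} (hx : x ∈ (P : Subgroup G)) (hx' : x ∈ (P' : Subgroup G))
    (hx1 : x ≠ 1) : P = P' := by
  have h : ∀ Q : Sylow 11 G, x ∈ (Q : Subgroup G) → zpowers x = (Q : Subgroup G) := by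
    intro Q hQ
    refine eq_of_le_of_card_ge (zpowers_le.2 hQ) ?_
    have hd : orderOf x ∣ 11 := D.card_sylow11 Q ▸ (Subgroup.orderOf_mk x hQ ▸ orderOf_dvd_natCard _)
    rcases (Nat.dvd_prime (by norm_num : Nat.Prime 11)).1 hd with e | e
    · exact absurd (orderOf_eq_one_iff.1 e) hx1
    · rw [Nat.card_zpowers, e, D.card_sylow11 Q]
  exact Sylow.ext ((h P hx).symm.trans (h P' hx'))

/-- An element of `K P` centralises only the Sylow `11`-subgroup `P`. -/
theorem Data.uniq (P P' : Sylow 11 G) {k : G} (hk : k ∈ D.K P) (hk1 : k ≠ 1)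
    (hP' : (P' : Subgroup G) ≤ centralizer ({k} : Set G)) : P' = P := by
  haveI := D.normal
  by_contra hne
  set Cn : Subgroup G := centralizer ({k} : Set G) ⊓ N
  have hle : ∀ Q : Sylow 11 G, (Q : Subgroup G) ≤ centralizer ({k} : Set G) → (Q : Subgroup G) ≤ Cn := fun Q h =>
    le_inf h (D.sylow_le (v := 1) (by norm_num) (by norm_num) (by norm_num) Q)
  have hP : (P : Subgroup G) ≤ centralizer ({k} : Set G) := fun x hx => by
    rw [mem_centralizer_singleton_iff]
    exact D.K_commute P hk hx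
  let PC : Sylow 11 Cn := P.subtype (hle P hP)
  have hn1 : Nat.card (Sylow 11 Cn) ≠ 1 := by
    intro h1
    obtain ⟨hs, -⟩ := Nat.card_eq_one_iff_unique.1 h1
    have he : P'.subtype (hle P' hP') = PC := Subsingleton.elim _ _
    exact hne (Sylow.subtype_injective he)
  have hd : Nat.card (Sylow 11 Cn) * 44 ∣ 3960 := by
    have h1 : Nat.card (Sylow 11 Cn) * Nat.card (normalizer ((PC : Subgroup Cn) : Set Cn)) = Nat.card Cn := by
      rw [PC.card_eq_index_normalizer, mul_comm]
      exact card_mul_index _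
    have h44 : 44 ∣ Nat.card (normalizer ((PC : Subgroup Cn) : Set Cn)) := by
      have hPC : (PC : Subgroup Cn) = (P : Subgroup G).subgroupOf Cn := P.coe_subtype _
      have hK : D.K P ≤ Cn := by
        refine le_inf (fun x hx => ?_) ((D.K_spec P).2.trans inf_le_right)
        rw [mem_centralizer_singleton_iff]
        haveI := Fact.mk Nat.prime_two
        haveI : IsMulCommutative (D.K P) :=
          IsPGroup.isMulCommutative_of_card_eq_prime_sq (p := 2) (by rw [(D.K_spec P).1]; norm_num)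
        exact congrArg Subtype.val (mul_comm' (⟨x, hx⟩ : D.K P) ⟨k, hk⟩)
      have hKN : (D.K P).subgroupOf Cn ≤ normalizer ((PC : Subgroup Cn) : Set Cn) := by
        refine le_trans ?_ (centralizer_le_normalizer _)
        intro x hx
        rw [mem_centralizer_iff]
        intro y hy
        rw [SetLike.mem_coe, hPC] at hy
        exact Subtype.ext (D.K_commute P hx hy)
      have h4 : 4 ∣ Nat.card (normalizer ((PC : Subgroup Cn) : Set Cn)) := by
        refine Dvd.dvd.trans (dvd_of_eq ?_) (card_dvd_of_le hKN)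
        rw [Nat.card_congr (subgroupOfEquivOfLe hK).toEquiv, (D.K_spec P).1]
      have h11 : 11 ∣ Nat.card (normalizer ((PC : Subgroup Cn) : Set Cn)) := by
        refine Dvd.dvd.trans (dvd_of_eq ?_) (card_dvd_of_le (le_normalizer (H := (PC : Subgroup Cn))))
        rw [hPC, Nat.card_congr (subgroupOfEquivOfLe (hle P hP)).toEquiv, D.card_sylow11 P]
      omega
    refine (Nat.mul_dvd_mul_left _ h44).trans ?_
    rw [h1, ← D.cardN]
    exact card_dvd_of_le inf_le_right
  have hmod : Nat.card (Sylow 11 Cn) % 11 = 1 := card_sylow_modEq_one 11 Cn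
  have h45 : Nat.card (Sylow 11 Cn) = 45 := by
    have h90 : Nat.card (Sylow 11 Cn) ∣ 90 := Nat.dvd_of_mul_dvd_mul_right (by norm_num : 0 < 44) hd
    have := Nat.le_of_dvd (by norm_num) h90
    generalize Nat.card (Sylow 11 Cn) = n at hn1 hmod h90 this
    interval_cases n <;> simp_all (config := {decide := true})
  -- every Sylow `11`-subgroup centralises `k`
  have hall : ∀ Q : Sylow 11 G, (Q : Subgroup G) ≤ centralizer ({k} : Set G) := by
    let ι : {Q : Sylow 11 G // (Q : Subgroup G) ≤ centralizer ({k} : Set G)} → Sylow 11 G := Subtype.val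
    let back : Sylow 11 Cn → {Q : Sylow 11 G // (Q : Subgroup G) ≤ centralizer ({k} : Set G)} := fun S => by
      have hS : IsPGroup 11 ((S : Subgroup Cn).map Cn.subtype) := S.2.map _
      refine ⟨hS.exists_le_sylow.choose, ?_⟩
      have hQ := hS.exists_le_sylow.choose_spec
      have he : ((S : Subgroup Cn).map Cn.subtype) = (hS.exists_le_sylow.choose : Subgroup G) := by
        refine eq_of_le_of_card_ge hQ ?_
        rw [D.card_sylow11, card_map_of_injective (subtype_injective _)]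
        refine Nat.le_of_dvd Nat.card_pos ?_
        refine Sylow.dvd_card_of_dvd_card S ?_
        refine Dvd.dvd.trans (dvd_of_eq ?_) (card_dvd_of_le (hle P hP))
        rw [D.card_sylow11]
      rw [← he]
      exact (map_subtype_le _).trans inf_le_left
    have hback : Function.Injective back := by
      intro S S' h
      have key : ∀ T : Sylow 11 Cn, (T : Subgroup Cn).map Cn.subtype = ((back T).1 : Subgroup G) := fun T => by
        have hT : IsPGroup 11 ((T : Subgroup Cn).map Cn.subtype) := T.2.map _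
        refine eq_of_le_of_card_ge hT.exists_le_sylow.choose_spec ?_
        rw [D.card_sylow11, card_map_of_injective (subtype_injective _)]
        refine Nat.le_of_dvd Nat.card_pos (Sylow.dvd_card_of_dvd_card T ?_)
        refine Dvd.dvd.trans (dvd_of_eq ?_) (card_dvd_of_le (hle P hP))
        rw [D.card_sylow11]
      refine Sylow.ext (map_injective (subtype_injective Cn) ?_)
      rw [key, key, h]
    have hcard := Nat.card_le_card_of_injective back hback
    rw [h45, ← D.n11] at hcard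
    have hbij : Function.Bijective ι :=
      (Nat.bijective_iff_injective_and_card ι).2 ⟨Subtype.val_injective,
        le_antisymm (Nat.card_le_card_of_injective ι Subtype.val_injective) hcard⟩
    intro Q
    obtain ⟨⟨Q', hQ'⟩, rfl⟩ := hbij.surjective Q
    exact hQ'
  -- so `k` generates a small normal subgroup
  let L : Subgroup G := (⨅ Q : Sylow 11 G, centralizer ((Q : Subgroup G) : Set G)) ⊓ N
  haveI : L.Normal := by
    refine ⟨fun x hx g => ?_⟩
    rw [Subgroup.mem_inf, Subgroup.mem_iInf] at hx ⊢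
    refine ⟨fun Q => mem_centralizer_iff.2 fun y hy => ?_, D.normal.conj_mem x hx.2 g⟩
    have hy' : g⁻¹ * y * g ∈ ((g⁻¹ • Q : Sylow 11 G) : Subgroup G) := by
      rw [Sylow.coe_subgroup_smul, mem_pointwise_smul_iff_inv_smul_mem]
      simpa [mul_assoc] using (show y ∈ (Q : Subgroup G) from hy)
    have h := mem_centralizer_iff.1 (hx.1 (g⁻¹ • Q)) _ hy'
    calc y * (g * x * g⁻¹) = g * ((g⁻¹ * y * g) * x) * g⁻¹ := by group
      _ = g * (x * (g⁻¹ * y * g)) * g⁻¹ := by rw [h]
      _ = g * x * g⁻¹ * y := by group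
  have hkL : k ∈ L := by
    refine Subgroup.mem_inf.2 ⟨Subgroup.mem_iInf.2 fun Q => mem_centralizer_iff.2 fun y hy => ?_,
      ((D.K_spec P).2 hk).2⟩
    exact mem_centralizer_singleton_iff.1 (hall Q hy)
  have hL88 : Nat.card L ∣ 88 := by
    have h1 : L ≤ normalizer ((P : Subgroup G) : Set G) ⊓ N :=
      inf_le_inf_right _ ((iInf_le _ P).trans (centralizer_le_normalizer _))
    have h2 := card_sylow_mul_dvd_of_normal P N (D.sylow_le (v := 1) (by norm_num) (by norm_num) (by norm_num) P)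
    rw [D.n11, D.cardN] at h2
    exact (card_dvd_of_le h1).trans (dvd_of_eq (by omega))
  have hL1 : 1 < Nat.card L := by
    haveI : Nontrivial L := ⟨⟨⟨k, hkL⟩, 1, fun h => hk1 (congrArg Subtype.val h)⟩⟩
    exact Finite.one_lt_card
  have hcases : Nat.card L = 11 ∨ goodB (Nat.card L) = true := by
    have := Nat.le_of_dvd (by norm_num) hL88
    generalize Nat.card L = l at hL88 hL1 this
    interval_cases l <;> first | exact Or.inl rfl | exact Or.inr (by decide +kernel) | omega
  rcases hcases with h | h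
  · exact D.nconn (conn_eleven D.card D.sep L h)
  · exact D.nconn (conn_of_good D.card D.sep L h)

theorem Data.commute_three_five {a b : G} (ha : 3 ∣ orderOf a) (hb : 5 ∣ orderOf b) : ¬ Commute a b := by
  intro hab
  have h1 : orderOf (a ^ (orderOf a / 3)) = 3 := orderOf_pow_orderOf_div (orderOf_pos a).ne' ha
  have h2 : orderOf (b ^ (orderOf b / 5)) = 5 := orderOf_pow_orderOf_div (orderOf_pos b).ne' hb
  obtain ⟨Q, hQ⟩ := SmallOrders.exists_sylow_eq_zpowers D.card_sylow5 h2
  have hmem : a ^ (orderOf a / 3) ∈ normalizer ((Q : Subgroup G) : Set G) := by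
    refine centralizer_le_normalizer _ ?_
    rw [hQ, mem_centralizer_iff]
    rintro y ⟨n, rfl⟩
    exact (((hab.pow_pow _ _).zpow_right n).eq).symm
  have hd : 3 ∣ Nat.card (normalizer ((Q : Subgroup G) : Set G)) := by
    rw [← h1, ← Subgroup.orderOf_mk _ hmem]
    exact orderOf_dvd_natCard _
  rw [D.card_norm5] at hd
  omega

theorem Data.commute_three_eleven {a b : G} (ha : 3 ∣ orderOf a) (hb : 11 ∣ orderOf b) : ¬ Commute a b := by
  intro hab
  have h1 : orderOf (a ^ (orderOf a / 3)) = 3 := orderOf_pow_orderOf_div (orderOf_pos a).ne' ha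
  have h2 : orderOf (b ^ (orderOf b / 11)) = 11 := orderOf_pow_orderOf_div (orderOf_pos b).ne' hb
  obtain ⟨Q, hQ⟩ := SmallOrders.exists_sylow_eq_zpowers D.card_sylow11 h2
  have hmem : a ^ (orderOf a / 3) ∈ normalizer ((Q : Subgroup G) : Set G) := by
    refine centralizer_le_normalizer _ ?_
    rw [hQ, mem_centralizer_iff]
    rintro y ⟨n, rfl⟩
    exact (((hab.pow_pow _ _).zpow_right n).eq).symm
  have hd : 3 ∣ Nat.card (normalizer ((Q : Subgroup G) : Set G)) := by
    rw [← h1, ← Subgroup.orderOf_mk _ hmem]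
    exact orderOf_dvd_natCard _
  rw [D.card_norm11] at hd
  omega

theorem Data.n3_large : 55 ≤ Nat.card (Sylow 3 G) ∧ Nat.card (Sylow 3 G) ∣ 440 := by
  haveI := D.normal
  obtain ⟨R⟩ : Nonempty (Sylow 3 G) := inferInstance
  have hR : Nat.card (R : Subgroup G) = 3 ^ 2 := sylow_card D.card (by norm_num) (by norm_num) R
  have hRN := D.sylow_le (v := 2) (by norm_num) (by norm_num) (by norm_num) R
  have hx := card_sylow_mul_dvd_of_normal R N hRN
  rw [D.cardN] at hx
  have h9 : 3 ^ 2 ∣ Nat.card ↥(normalizer ((R : Subgroup G) : Set G) ⊓ N) :=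
    hR ▸ card_dvd_of_le (le_inf le_normalizer hRN)
  have h440 : Nat.card (Sylow 3 G) ∣ 440 := by
    obtain ⟨c, hc⟩ := h9
    rw [hc] at hx
    exact ⟨c, by linarith [hx]⟩
  refine ⟨?_, h440⟩
  have hmod : Nat.card (Sylow 3 G) % 3 = 1 := card_sylow_modEq_one 3 G
  have hmem := sylow_three_cases _ (Nat.mem_divisors.2 ⟨h440, by norm_num⟩) hmod
  have hH := card_normalizer_sylow D.card R
  have hnot : ∀ s : ℕ, s = 5 ∨ s = 11 → ¬ s ∣ Nat.card (normalizer ((R : Subgroup G) : Set G)) := by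
    intro s hs hd
    have hsp : s.Prime := by rcases hs with rfl | rfl <;> norm_num
    haveI := Fact.mk hsp
    obtain ⟨T, hT⟩ := Sylow.exists_subgroup_card_pow_prime (G := normalizer ((R : Subgroup G) : Set G)) s (n := 1)
      (by rwa [pow_one])
    obtain ⟨g, hg⟩ := exists_pq_of_normalize Nat.prime_three hsp (by omega) (R : Subgroup G) R.2 (fun h0 => by
        rw [h0, card_bot] at hR
        norm_num at hR)
      (T.map (normalizer ((R : Subgroup G) : Set G)).subtype) (by rw [card_map_of_injective (subtype_injective _), hT])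
      (map_subtype_le T) (fun j hj1 hjd => by
        rw [hR] at hjd
        have hj2 : j ≤ 2 := (Nat.pow_dvd_pow_iff_le_right (by norm_num)).1 hjd
        interval_cases j <;> rcases hs with rfl | rfl <;> norm_num)
    have h3g : 3 ∣ orderOf (g ^ s) := by
      rw [orderOf_pow' g hsp.ne_zero, hg, Nat.gcd_eq_right (dvd_mul_left s 3), Nat.mul_div_cancel _ hsp.pos]
    have hsg : s ∣ orderOf (g ^ 3) := by
      rw [orderOf_pow' g (by norm_num), hg, Nat.gcd_eq_right (dvd_mul_right 3 s), Nat.mul_div_cancel_left _ (by norm_num)]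
    rcases hs with rfl | rfl
    · exact D.commute_three_five h3g hsg ((Commute.refl g).pow_pow _ _)
    · exact D.commute_three_eleven h3g hsg ((Commute.refl g).pow_pow _ _)
  have h5' := hnot 5 (Or.inl rfl)
  have h11' := hnot 11 (Or.inr rfl)
  generalize Nat.card (Sylow 3 G) = n at hmem hH ⊢
  generalize Nat.card (normalizer ((R : Subgroup G) : Set G)) = h at h5' h11' hH
  simp only [List.mem_cons, List.not_mem_nil, or_false] at hmem
  rcases hmem with rfl | rfl | rfl | rfl | rfl | rfl | rfl | rfl <;> omega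

theorem Data.card_sylow3 (R : Sylow 3 G) : Nat.card (R : Subgroup G) = 9 := by
  rw [sylow_card D.card (v := 2) (by norm_num) (by norm_num) R]; norm_num

theorem Data.pow_sixtyfour {R : Sylow 3 G} {r : G} (hr : r ∈ (R : Subgroup G)) : r ^ 64 = r := by
  have h0 : (⟨r, hr⟩ : (R : Subgroup G)) ^ Nat.card (R : Subgroup G) = 1 := pow_card_eq_one'
  rw [D.card_sylow3 R] at h0
  have h9 : r ^ 9 = 1 := congrArg Subtype.val h0
  rw [show 64 = 9 * 7 + 1 by norm_num, pow_succ, pow_mul, h9, one_pow, one_mul]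

theorem Data.comm_sylow3 (R : Sylow 3 G) {a b : G} (ha : a ∈ (R : Subgroup G)) (hb : b ∈ (R : Subgroup G)) :
    Commute a b := by
  haveI : IsMulCommutative (R : Subgroup G) :=
    IsPGroup.isMulCommutative_of_card_eq_prime_sq (p := 3) (by rw [D.card_sylow3 R]; norm_num)
  exact congrArg Subtype.val (mul_comm' (⟨a, ha⟩ : (R : Subgroup G)) ⟨b, hb⟩)

theorem Data.three_dvd_orderOf {R : Sylow 3 G} {r : G} (hr : r ∈ (R : Subgroup G)) (hr1 : r ≠ 1) :
    3 ∣ orderOf r := by
  obtain ⟨k, hk⟩ := IsPGroup.iff_orderOf.1 R.2 ⟨r, hr⟩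
  rw [Subgroup.orderOf_mk] at hk
  rw [hk]
  exact dvd_pow_self 3 fun h0 => hr1 (orderOf_eq_one_iff.1 (by rw [hk, h0, pow_zero]))

/-- Distinct `2`-elements of `C_N(r)`, one for each Sylow `3`-subgroup through `r`. -/
theorem Data.exists_two_parts (r : G) (hr : r ≠ 1) :
    ∃ v : {R : Sylow 3 G // r ∈ (R : Subgroup G)} → G, Function.Injective v ∧
      ∀ R, v R ∈ N ∧ Commute r (v R) ∧ (v R) ^ 8 = 1 := by
  haveI := D.normal
  rcases isEmpty_or_nonempty {R : Sylow 3 G // r ∈ (R : Subgroup G)} with he | ⟨⟨R₀⟩⟩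
  · exact ⟨fun R => (he.false R).elim, fun R => (he.false R).elim, fun R => (he.false R).elim⟩
  set C : Subgroup G := centralizer ({r} : Set G) ⊓ N
  have hle : ∀ R : {R : Sylow 3 G // r ∈ (R : Subgroup G)}, ((R.1 : Subgroup G)) ≤ C := fun R =>
    le_inf (fun x hx => mem_centralizer_singleton_iff.2 (D.comm_sylow3 R.1 hx R.2))
      (D.sylow_le (v := 2) (by norm_num) (by norm_num) (by norm_num) R.1)
  have h3r := D.three_dvd_orderOf R₀.2 hr
  have hCN : Nat.card C ∣ 3960 := D.cardN ▸ card_dvd_of_le inf_le_right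
  have hnot : ¬ 5 ∣ Nat.card C ∧ ¬ 11 ∣ Nat.card C := by
    constructor <;> intro hd
    · obtain ⟨q, hq⟩ := exists_prime_orderOf_dvd_card' (G := C) 5 hd
      exact D.commute_three_five h3r (b := (q : G)) (by rw [orderOf_coe, hq])
        (mem_centralizer_singleton_iff.1 q.2.1).symm
    · obtain ⟨q, hq⟩ := exists_prime_orderOf_dvd_card' (G := C) 11 hd
      exact D.commute_three_eleven h3r (b := (q : G)) (by rw [orderOf_coe, hq])
        (mem_centralizer_singleton_iff.1 q.2.1).symm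
  have h72 : Nat.card C ∣ 72 := by
    have e5 : Nat.Coprime (Nat.card C) 5 := ((Nat.Prime.coprime_iff_not_dvd (by norm_num)).2 hnot.1).symm
    have e11 : Nat.Coprime (Nat.card C) 11 := ((Nat.Prime.coprime_iff_not_dvd (by norm_num)).2 hnot.2).symm
    have h1 : Nat.Coprime (Nat.card C) (5 * 11) := e5.mul_right e11
    exact h1.dvd_of_dvd_mul_left (show Nat.card C ∣ 55 * 72 from hCN)
  let RC := R₀.1.subtype (hle R₀)
  have hRC : Nat.card (RC : Subgroup C) = 9 := by
    rw [R₀.1.coe_subtype, Nat.card_congr (subgroupOfEquivOfLe (hle R₀)).toEquiv, D.card_sylow3]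
  have hmul := (RC : Subgroup C).card_mul_index
  rw [hRC] at hmul
  obtain ⟨e, he, hidx⟩ : ∃ e ≤ 3, (RC : Subgroup C).index = 2 ^ e := by
    refine (Nat.dvd_prime_pow Nat.prime_two).1 (Nat.dvd_of_mul_dvd_mul_left (by norm_num : 0 < 9) ?_)
    rw [hmul]
    exact h72
  haveI := Fact.mk Nat.prime_two
  obtain ⟨T, hT⟩ := Sylow.exists_subgroup_card_pow_prime (G := C) 2 (n := e) (by rw [← hmul, hidx]; exact dvd_mul_left _ _)
  have hinj : Function.Injective (fun R : {R : Sylow 3 G // r ∈ (R : Subgroup G)} => R.1.subtype (hle R)) :=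
    fun R R' h => Subtype.ext (Sylow.subtype_injective h)
  have hcard : Nat.card {R : Sylow 3 G // r ∈ (R : Subgroup G)} ≤ Nat.card T := by
    refine (Nat.card_le_card_of_injective _ hinj).trans ?_
    rw [hT, ← hidx]
    exact Nat.le_of_dvd (Nat.pos_of_ne_zero index_ne_zero_of_finite) RC.card_dvd_index
  haveI := Fintype.ofFinite {R : Sylow 3 G // r ∈ (R : Subgroup G)}
  haveI := Fintype.ofFinite T
  obtain ⟨ι⟩ := Function.Embedding.nonempty_of_card_le
    (α := {R : Sylow 3 G // r ∈ (R : Subgroup G)}) (β := T)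
    (by rwa [← Nat.card_eq_fintype_card, ← Nat.card_eq_fintype_card])
  refine ⟨fun R => ((ι R : C) : G), fun R R' h => ι.injective (Subtype.ext (Subtype.ext h)), fun R =>
    ⟨(ι R : C).2.2, (mem_centralizer_singleton_iff.1 (ι R : C).2.1).symm, ?_⟩⟩
  have h0 : (ι R) ^ Nat.card T = 1 := pow_card_eq_one'
  rw [hT] at h0
  have h1 : (((ι R : C) : G)) ^ (2 ^ e) = 1 := congrArg (fun x : T => ((x : C) : G)) h0
  rw [show 8 = 2 ^ e * 2 ^ (3 - e) by rw [← pow_add, Nat.add_sub_cancel' he]; rfl, pow_mul, h1, one_pow]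

/-- The four families of non-identity elements. -/
theorem Data.fill : Nat.card (Sylow 3 G) = 55 ∧
    ∀ {u : G}, u ∈ N → u ≠ 1 → u ^ 8 = 1 → ∃ P : Sylow 11 G, u ∈ D.K P := by
  haveI := D.normal
  classical
  choose v hv hv' using fun r : {r : G // r ≠ 1} => D.exists_two_parts r r.2
  let A5 := {g : G // orderOf g = 5}
  let A11 := Σ P : Sylow 11 G, {x : (P : Subgroup G) // x ≠ 1} × D.K P
  let B := Σ P : Sylow 11 G, {k : D.K P // k ≠ 1}
  let C3 := Σ R : Sylow 3 G, {x : (R : Subgroup G) // x ≠ 1}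
  let X := Option (A5 ⊕ A11 ⊕ B ⊕ C3)
  have hne : ∀ (R : Sylow 3 G) (x : {x : (R : Subgroup G) // x ≠ 1}), (x.1 : G) ≠ 1 :=
    fun R x h => x.2 (Subtype.ext h)
  let vv : ∀ (R : Sylow 3 G) (x : {x : (R : Subgroup G) // x ≠ 1}), G := fun R x =>
    v ⟨(x.1 : G), hne R x⟩ ⟨R, x.1.2⟩
  let φ : X → G
    | none => 1
    | some (Sum.inl g) => g.1
    | some (Sum.inr (Sum.inl a)) => (a.2.1.1 : G) * (a.2.2 : G)
    | some (Sum.inr (Sum.inr (Sum.inl b))) => (b.2.1 : G)
    | some (Sum.inr (Sum.inr (Sum.inr c))) => (c.2.1 : G) * vv c.1 c.2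
  have hx11 : ∀ (P : Sylow 11 G) {x : G}, x ∈ (P : Subgroup G) → x ^ 11 = 1 := fun P x hx => by
    have h0 : (⟨x, hx⟩ : (P : Subgroup G)) ^ Nat.card (P : Subgroup G) = 1 := pow_card_eq_one'
    rw [D.card_sylow11 P] at h0
    exact congrArg Subtype.val h0
  -- separating powers
  have h5 : ∀ g : A5, g.1 ^ 5 = 1 ∧ g.1 ≠ 1 := fun g => ⟨by
      have h := pow_orderOf_eq_one g.1
      rwa [show orderOf g.1 = 5 from g.2] at h,
    fun h => by have := g.2; rw [h, orderOf_one] at this; omega⟩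
  have h11 : ∀ a : A11, ((a.2.1.1 : G) * a.2.2) ^ 12 = (a.2.1.1 : G) ∧ (a.2.1.1 : G) ^ 11 = 1 ∧ (a.2.1.1 : G) ≠ 1 := by
    rintro ⟨P, ⟨⟨x, hx⟩, hx1⟩, k, hk⟩
    refine ⟨?_, hx11 P hx, fun h => hx1 (Subtype.ext h)⟩
    show (x * k) ^ 12 = x
    rw [(D.K_commute P hk hx).mul_pow, show 12 = 11 + 1 by norm_num, pow_succ, hx11 P hx, one_mul,
      show 11 + 1 = 4 * 3 by norm_num, pow_mul, D.K_pow P hk, one_pow, mul_one]
  have hB : ∀ b : B, (b.2.1 : G) ^ 4 = 1 ∧ (b.2.1 : G) ≠ 1 := fun b =>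
    ⟨D.K_pow b.1 b.2.1.2, fun h => b.2.2 (Subtype.ext h)⟩
  have hC : ∀ c : C3, ((c.2.1 : G) * vv c.1 c.2) ^ 64 = (c.2.1 : G) ∧ (c.2.1 : G) ^ 9 = 1 ∧ (c.2.1 : G) ≠ 1 := by
    rintro ⟨R, ⟨⟨r, hr⟩, hr1⟩⟩
    have hr1' : r ≠ 1 := fun h => hr1 (Subtype.ext h)
    obtain ⟨-, hcm, h8⟩ := hv' ⟨r, hr1'⟩ ⟨R, hr⟩
    refine ⟨?_, ?_, hr1'⟩
    · show (r * v ⟨r, _⟩ ⟨R, hr⟩) ^ 64 = r
      rw [hcm.mul_pow, D.pow_sixtyfour hr, show 64 = 8 * 8 by norm_num, pow_mul, h8, one_pow, mul_one]
    · have h0 : (⟨r, hr⟩ : (R : Subgroup G)) ^ Nat.card (R : Subgroup G) = 1 := pow_card_eq_one'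
      rw [D.card_sylow3 R] at h0
      exact congrArg Subtype.val h0
  have cop : ∀ {g : G} {a b : ℕ}, g ^ a = 1 → g ^ b = 1 → Nat.gcd a b = 1 → g = 1 := by
    intro g a b ha hb hab
    have := Nat.dvd_gcd (orderOf_dvd_of_pow_eq_one ha) (orderOf_dvd_of_pow_eq_one hb)
    rwa [hab, Nat.dvd_one, orderOf_eq_one_iff] at this
  have sep_5_11 : ∀ (g : A5) (a : A11), φ (some (Sum.inl g)) ≠ φ (some (Sum.inr (Sum.inl a))) := by
    intro g a h
    have h' : g.1 = (a.2.1.1 : G) * a.2.2 := h
    obtain ⟨e, e11, ne⟩ := h11 a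
    rw [← h'] at e
    refine ne (cop (b := 11) (a := 5) ?_ e11 (by norm_num))
    rw [← e, ← pow_mul, mul_comm, pow_mul, (h5 g).1, one_pow]
  have sep_5_B : ∀ (g : A5) (b : B), φ (some (Sum.inl g)) ≠ φ (some (Sum.inr (Sum.inr (Sum.inl b)))) := by
    intro g b h
    have h' : g.1 = (b.2.1 : G) := h
    exact (h5 g).2 (cop (h5 g).1 (by rw [h']; exact (hB b).1) (by norm_num))
  have sep_5_3 : ∀ (g : A5) (c : C3), φ (some (Sum.inl g)) ≠ φ (some (Sum.inr (Sum.inr (Sum.inr c)))) := by
    intro g c h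
    have h' : g.1 = (c.2.1 : G) * vv c.1 c.2 := h
    obtain ⟨e, e9, ne⟩ := hC c
    rw [← h'] at e
    refine ne (cop (b := 9) (a := 5) ?_ e9 (by norm_num))
    rw [← e, ← pow_mul, mul_comm, pow_mul, (h5 g).1, one_pow]
  have sep_11_B : ∀ (a : A11) (b : B), φ (some (Sum.inr (Sum.inl a))) ≠ φ (some (Sum.inr (Sum.inr (Sum.inl b)))) := by
    intro a b h
    have h' : (a.2.1.1 : G) * a.2.2 = (b.2.1 : G) := h
    obtain ⟨e, -, ne⟩ := h11 a
    rw [h', show 12 = 4 * 3 by norm_num, pow_mul, (hB b).1, one_pow] at e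
    exact ne e.symm
  have sep_11_3 : ∀ (a : A11) (c : C3), φ (some (Sum.inr (Sum.inl a))) ≠ φ (some (Sum.inr (Sum.inr (Sum.inr c)))) := by
    intro a c h
    have h' : (a.2.1.1 : G) * a.2.2 = (c.2.1 : G) * vv c.1 c.2 := h
    obtain ⟨e, e11, ne⟩ := h11 a
    obtain ⟨e', e9, ne'⟩ := hC c
    rw [← h'] at e'
    have h768 : ((a.2.1.1 : G) * a.2.2) ^ (12 * 64) = (a.2.1.1 : G) ^ 64 := by rw [pow_mul, e]
    rw [mul_comm, pow_mul, e'] at h768
    refine ne (cop (b := 11) (a := 9 * 64) ?_ e11 (by norm_num))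
    rw [mul_comm, pow_mul, ← h768, ← pow_mul, mul_comm, pow_mul, e9, one_pow]
  have sep_B_3 : ∀ (b : B) (c : C3), φ (some (Sum.inr (Sum.inr (Sum.inl b)))) ≠ φ (some (Sum.inr (Sum.inr (Sum.inr c)))) := by
    intro b c h
    have h' : (b.2.1 : G) = (c.2.1 : G) * vv c.1 c.2 := h
    obtain ⟨e, -, ne⟩ := hC c
    rw [← h', show 64 = 4 * 16 by norm_num, pow_mul, (hB b).1, one_pow] at e
    exact ne e.symm
  have sep_one : ∀ y, φ (some y) ≠ 1 := by
    intro y h
    rcases y with g | a | b | c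
    · exact (h5 g).2 h
    · obtain ⟨e, -, ne⟩ := h11 a
      rw [show (a.2.1.1 : G) * a.2.2 = 1 from h, one_pow] at e
      exact ne e.symm
    · exact (hB b).2 h
    · obtain ⟨e, -, ne⟩ := hC c
      rw [show (c.2.1 : G) * vv c.1 c.2 = 1 from h, one_pow] at e
      exact ne e.symm
  have hφ : Function.Injective φ := by
    rintro (_ | y) (_ | y') h
    · rfl
    · exact absurd h.symm (sep_one y')
    · exact absurd h (sep_one y)
    rcases y with g | a | b | c <;> rcases y' with g' | a' | b' | c'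
    · exact congrArg (fun z => some (Sum.inl z)) (Subtype.ext h)
    · exact absurd h (sep_5_11 _ _)
    · exact absurd h (sep_5_B _ _)
    · exact absurd h (sep_5_3 _ _)
    · exact absurd h.symm (sep_5_11 _ _)
    · have he : (a.2.1.1 : G) = a'.2.1.1 := by
        rw [← (h11 a).1, ← (h11 a').1]; exact congrArg (· ^ 12) h
      obtain ⟨P, ⟨⟨x, hx⟩, hx1⟩, k⟩ := a
      obtain ⟨P', ⟨⟨x', hx'⟩, hx1'⟩, k'⟩ := a'
      obtain rfl : x = x' := he
      obtain rfl := D.sylow_eq_of_mem hx hx' (fun h0 => hx1 (Subtype.ext h0))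
      obtain rfl : k = k' := Subtype.ext (mul_left_cancel (show x * (k : G) = x * k' from h))
      rfl
    · exact absurd h (sep_11_B _ _)
    · exact absurd h (sep_11_3 _ _)
    · exact absurd h.symm (sep_5_B _ _)
    · exact absurd h.symm (sep_11_B _ _)
    · obtain ⟨P, ⟨k, hk⟩, hk1⟩ := b
      obtain ⟨P', ⟨k', hk'⟩, hk1'⟩ := b'
      obtain rfl : k = k' := h
      obtain rfl : P' = P := D.uniq P P' hk (fun h0 => hk1 (Subtype.ext h0))
        (fun x hx => mem_centralizer_singleton_iff.2 (D.K_commute P' hk' hx))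
      rfl
    · exact absurd h (sep_B_3 _ _)
    · exact absurd h.symm (sep_5_3 _ _)
    · exact absurd h.symm (sep_11_3 _ _)
    · exact absurd h.symm (sep_B_3 _ _)
    · have he : (c.2.1 : G) = c'.2.1 := by
        rw [← (hC c).1, ← (hC c').1]; exact congrArg (· ^ 64) h
      obtain ⟨R, ⟨⟨x, hx⟩, hx1⟩⟩ := c
      obtain ⟨R', ⟨⟨x', hx'⟩, hx1'⟩⟩ := c'
      obtain rfl : x = x' := he
      have he2 : v ⟨x, hne R ⟨⟨x, hx⟩, hx1⟩⟩ ⟨R, hx⟩ = v ⟨x, hne R ⟨⟨x, hx⟩, hx1⟩⟩ ⟨R', hx'⟩ :=
        mul_left_cancel (show x * _ = x * _ from h)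
      obtain rfl : R = R' := congrArg Subtype.val (hv _ he2)
      rfl
  have hcod : ∀ y, φ y ∈ N := by
    rintro (_ | g | a | b | c)
    · exact N.one_mem
    · exact D.mem_of_coprime_two (by rw [g.2]; norm_num)
    · exact N.mul_mem (D.sylow_le (v := 1) (by norm_num) (by norm_num) (by norm_num) a.1 a.2.1.1.2)
        ((D.K_spec a.1).2 a.2.2.2).2
    · exact ((D.K_spec b.1).2 b.2.1.2).2
    · exact N.mul_mem (D.sylow_le (v := 2) (by norm_num) (by norm_num) (by norm_num) c.1 c.2.1.2)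
        (hv' _ _).1
  let ψ : X → N := fun y => ⟨φ y, hcod y⟩
  have hψ : Function.Injective ψ := fun a b h => hφ (congrArg Subtype.val h)
  have hcX : Nat.card X = 3520 + 8 * Nat.card (Sylow 3 G) := by
    haveI := Fintype.ofFinite (Sylow 11 G)
    haveI := Fintype.ofFinite (Sylow 3 G)
    have hsub : ∀ (H : Subgroup G), Nat.card {x : H // x ≠ 1} = Nat.card H - 1 := fun H => by
      haveI := Fintype.ofFinite H
      rw [Nat.card_eq_fintype_card, Fintype.card_subtype_compl, Fintype.card_subtype_eq,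
        ← Nat.card_eq_fintype_card]
    show Nat.card (Option (A5 ⊕ A11 ⊕ B ⊕ C3)) = 3520 + 8 * Nat.card (Sylow 3 G)
    rw [Finite.card_option, Nat.card_sum, Nat.card_sum, Nat.card_sum,
      SmallOrders.card_orderOf_eq_prime D.card_sylow5, D.n5, Nat.card_sigma, Nat.card_sigma, Nat.card_sigma]
    simp only [Nat.card_prod, hsub, D.card_sylow11, D.card_sylow3, (D.K_spec _).1]
    simp only [Finset.sum_const, Finset.card_univ, smul_eq_mul, ← Nat.card_eq_fintype_card, D.n11]
    omega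
  have h55 : Nat.card (Sylow 3 G) = 55 := by
    have hle := Nat.card_le_card_of_injective ψ hψ
    rw [D.cardN, hcX] at hle
    have := D.n3_large.1
    omega
  refine ⟨h55, fun {u} hu hu1 hu8 => ?_⟩
  have hbij : Function.Bijective ψ :=
    (Nat.bijective_iff_injective_and_card ψ).2 ⟨hψ, by rw [hcX, h55, D.cardN]⟩
  obtain ⟨y, hy⟩ := hbij.surjective ⟨u, hu⟩
  have hy' : φ y = u := congrArg Subtype.val hy
  rcases y with _ | g | a | b | c
  · exact absurd hy'.symm hu1
  · have h' : g.1 = u := hy'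
    exact absurd (cop (h5 g).1 (h' ▸ hu8) (by norm_num)) (h5 g).2
  · have h' : (a.2.1.1 : G) * a.2.2 = u := hy'
    obtain ⟨e, e11, ne⟩ := h11 a
    rw [h'] at e
    refine absurd (cop (b := 11) (a := 8) ?_ e11 (by norm_num)) ne
    rw [← e, ← pow_mul, mul_comm, pow_mul, hu8, one_pow]
  · have h' : (b.2.1 : G) = u := hy'
    exact ⟨b.1, h' ▸ b.2.1.2⟩
  · have h' : (c.2.1 : G) * vv c.1 c.2 = u := hy'
    obtain ⟨e, -, ne⟩ := hC c
    rw [h', show 64 = 8 * 8 by norm_num, pow_mul, hu8, one_pow] at e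
    exact absurd e.symm ne

theorem Data.false : False := by
  haveI := D.normal
  haveI := Fact.mk Nat.prime_two
  -- no `2`-element of `N` centralises an element of order divisible by `3`
  have hfree : ∀ (R : Sylow 3 G) {r u : G}, r ∈ (R : Subgroup G) → r ≠ 1 → u ∈ N → u ^ 8 = 1 → Commute r u →
      u = 1 := by
    intro R r u hr hr1 hu hu8 hcm
    by_contra hu1
    obtain ⟨P, hP⟩ := D.fill.2 hu hu1 hu8
    have hrP : r • P = P := by
      refine D.uniq P _ hP hu1 fun x hx => ?_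
      rw [Sylow.coe_subgroup_smul, mem_pointwise_smul_iff_inv_smul_mem] at hx
      rw [mem_centralizer_singleton_iff]
      have h := D.K_commute P hP hx
      simp only [MulAut.smul_def, MulAut.inv_apply, MulAut.conj_symm_apply] at h
      calc x * u = r * ((r⁻¹ * x * r) * u) * r⁻¹ := by
            rw [mul_assoc (r⁻¹ * x) r u, hcm.eq]; group
        _ = r * (u * (r⁻¹ * x * r)) * r⁻¹ := by rw [h.eq]
        _ = u * x := by rw [← mul_assoc r u, hcm.eq]; group
    have hmem : r ∈ normalizer ((P : Subgroup G) : Set G) := Sylow.smul_eq_iff_mem_normalizer.1 hrP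
    have hd : orderOf r ∣ 176 := D.card_norm11 P ▸ (Subgroup.orderOf_mk r hmem ▸ orderOf_dvd_natCard _)
    have := (D.three_dvd_orderOf hr hr1).trans hd
    omega
  obtain ⟨R⟩ : Nonempty (Sylow 3 G) := inferInstance
  have hRN := D.sylow_le (v := 2) (by norm_num) (by norm_num) (by norm_num) R
  have h8 : 8 ∣ Nat.card ↥(normalizer ((R : Subgroup G) : Set G) ⊓ N) := by
    have h := card_sylow_mul_dvd_of_normal R N hRN
    rw [D.cardN] at h
    rw [D.fill.1] at h
    omega
  obtain ⟨T, hT⟩ := Sylow.exists_subgroup_card_pow_prime (G := ↥(normalizer ((R : Subgroup G) : Set G) ⊓ N)) 2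
    (n := 3) (by norm_num; exact h8)
  have hT8 : ∀ t : T, (((t : ↥(normalizer ((R : Subgroup G) : Set G) ⊓ N)) : G)) ^ 8 = 1 := fun t => by
    have h0 : t ^ Nat.card T = 1 := pow_card_eq_one'
    rw [hT] at h0
    exact congrArg (fun x : T => ((x : ↥(normalizer ((R : Subgroup G) : Set G) ⊓ N)) : G)) h0
  haveI : Nontrivial T := Finite.one_lt_card_iff_nontrivial.1 (by rw [hT]; norm_num)
  haveI := (IsPGroup.of_card hT).center_nontrivial
  obtain ⟨z, hz⟩ := exists_prime_orderOf_dvd_card' (G := center T) 2 (by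
    obtain ⟨k, hk⟩ := IsPGroup.iff_card.1 ((IsPGroup.of_card hT).to_subgroup (center T))
    rw [hk]
    exact dvd_pow_self 2 fun h0 => by
      have := Finite.one_lt_card (α := center T)
      rw [hk, h0, pow_zero] at this
      omega)
  let emb : T →* G := (Subgroup.subtype _).comp T.subtype
  have hemb : Function.Injective emb := fun a b h => Subtype.ext (Subtype.ext h)
  set zG : G := emb z.1 with hzG
  have hz2 : zG ^ 2 = 1 := by
    have h0 : z ^ 2 = 1 := hz ▸ pow_orderOf_eq_one z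
    rw [hzG, ← map_pow]
    have : z.1 ^ 2 = 1 := congrArg Subtype.val h0
    rw [this, map_one]
  have hz1 : zG ≠ 1 := fun h => by
    have : z.1 = 1 := hemb (h.trans (map_one emb).symm)
    have hz' : z = 1 := Subtype.ext this
    rw [hz', orderOf_one] at hz
    omega
  have hinvol : ∀ w : T, emb w ^ 2 = 1 → emb w ≠ 1 → ∀ r ∈ (R : Subgroup G), emb w * r * (emb w)⁻¹ = r⁻¹ := by
    intro w hw2 hw1 r hr
    have hwN : emb w ∈ normalizer ((R : Subgroup G) : Set G) ⊓ N := (w : ↥(normalizer ((R : Subgroup G) : Set G) ⊓ N)).2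
    have hwr : emb w * r * (emb w)⁻¹ ∈ (R : Subgroup G) := (mem_normalizer_iff.1 hwN.1 r).1 hr
    set y := emb w * r * (emb w)⁻¹ * r with hy
    have hyR : y ∈ (R : Subgroup G) := mul_mem hwr hr
    by_contra hne
    have hy1 : y ≠ 1 := fun h => hne (eq_inv_of_mul_eq_one_left h)
    refine hw1 (hfree R hyR hy1 hwN.2 (hT8 w) ?_)
    have hinv : (emb w)⁻¹ = emb w := inv_eq_of_mul_eq_one_right (by rw [← pow_two, hw2])
    have h1 : emb w * y * (emb w)⁻¹ = y := by
      calc emb w * y * (emb w)⁻¹ = (emb w * emb w) * r * ((emb w)⁻¹ * (emb w)⁻¹) * (emb w * r * (emb w)⁻¹) := by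
            rw [hy]; group
        _ = r * (emb w * r * (emb w)⁻¹) := by rw [hinv, ← pow_two, hw2, one_mul, mul_one]
        _ = y := (D.comm_sylow3 R hr hwr).eq
    exact (mul_inv_eq_iff_eq_mul.1 h1).symm
  obtain ⟨P, hzP⟩ := D.fill.2 (z.1 : ↥(normalizer ((R : Subgroup G) : Set G) ⊓ N)).2.2 hz1 (hT8 z.1)
  obtain ⟨r, hr, hr1⟩ : ∃ r ∈ (R : Subgroup G), r ≠ 1 := by
    by_contra h
    push Not at h
    have := D.card_sylow3 R
    rw [(Subgroup.eq_bot_iff_forall _).2 h, card_bot] at this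
    omega
  -- every element of `T` lies in `K P`
  have hall : ∀ t : T, emb t ∈ D.K P := by
    intro t
    by_cases ht : emb t = 1
    · rw [ht]; exact one_mem _
    obtain ⟨P', htP⟩ := D.fill.2 (t : ↥(normalizer ((R : Subgroup G) : Set G) ⊓ N)).2.2 ht (hT8 t)
    have h2t : 2 ∣ orderOf t := by
      obtain ⟨k, hk⟩ := IsPGroup.iff_orderOf.1 (IsPGroup.of_card hT) t
      rw [hk]
      exact dvd_pow_self 2 fun h0 => ht (by rw [(orderOf_eq_one_iff (x := t)).1 (by rw [hk, h0, pow_zero]), map_one])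
    set w := t ^ (orderOf t / 2) with hw
    have hwo : orderOf w = 2 := orderOf_pow_orderOf_div (orderOf_pos t).ne' h2t
    have hw2 : emb w ^ 2 = 1 := by rw [← map_pow, ← hwo, pow_orderOf_eq_one, map_one]
    have hw1 : emb w ≠ 1 := fun h => by
      rw [hemb (h.trans (map_one emb).symm), orderOf_one] at hwo
      omega
    have hzw : Commute zG (emb w) := by
      have : Commute z.1 w := (mem_center_iff.1 z.2 w).symm
      exact this.map emb
    have hwz : zG * emb w = 1 := by
      refine hfree R hr hr1 (mul_mem (z.1 : ↥(normalizer ((R : Subgroup G) : Set G) ⊓ N)).2.2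
        (w : ↥(normalizer ((R : Subgroup G) : Set G) ⊓ N)).2.2) ?_ ?_
      · rw [hzw.mul_pow, show zG ^ 8 = 1 from hT8 z.1, show emb w ^ 8 = 1 from hT8 w, one_mul]
      · have h1 := hinvol z.1 hz2 hz1 r hr
        have h2 := hinvol w hw2 hw1 r hr
        have h3 : zG * emb w * r * (zG * emb w)⁻¹ = r := by
          calc zG * emb w * r * (zG * emb w)⁻¹ = zG * (emb w * r * (emb w)⁻¹) * zG⁻¹ := by group
            _ = (zG * r * zG⁻¹)⁻¹ := by rw [h2]; group
            _ = r := by rw [h1, inv_inv]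
        exact (mul_inv_eq_iff_eq_mul.1 h3).symm
    have hweq : emb w = zG := by
      rw [← mul_right_inj zG, hwz, ← pow_two, hz2]
    have hzP' : zG ∈ D.K P' := by
      rw [← hweq, hw, map_pow]
      exact pow_mem htP _
    rwa [D.uniq P P' hzP hz1 fun x hx => mem_centralizer_singleton_iff.2 (D.K_commute P' hzP' hx)] at htP
  have hle : Nat.card T ≤ Nat.card (D.K P) := by
    refine Nat.card_le_card_of_injective (fun t => (⟨emb t, hall t⟩ : D.K P)) fun a b h => ?_
    have h' : emb a = emb b := congrArg (fun q : D.K P => (q : G)) h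
    exact hemb h'
  rw [hT, (D.K_spec P).1] at hle
  norm_num at hle

end Cfsg.Agent.GraphOrder
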