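import Cfsg.Agent.EqLemmas
import Mathlib.GroupTheory.Transfer
import Mathlib.GroupTheory.Sylow
import Mathlib.GroupTheory.GroupAction.Quotient
import Mathlib.GroupTheory.SpecificGroups.Cyclic

/-!
# Elements of order `r * s` from Sylow arithmetic

* `exists_pq_of_normal` : a normal subgroup and a `s`-group too big to act freely on an `r`-group;
* `exists_pq_of_sylow_normalizer`, `exists_pq_centralizer`, `card_normalizer_dvd` ;
* `card_sylow_mul_dvd_of_normal`, `exists_normal_complement_inside`.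
-/

set_option autoImplicit false

namespace Cfsg.Agent.GraphOrder

open Subgroup

variable {G : Type*} [Group G] [Finite G]

omit [Finite G] in
theorem exists_pq_of_commute {z t : G} {r s : ℕ} (hr : r.Prime) (hs : s.Prime) (hrs : r ≠ s)
    (hz : r ∣ orderOf z) (ht : s ∣ orderOf t) (hc : Commute z t) (hz0 : orderOf z ≠ 0)
    (ht0 : orderOf t ≠ 0) : ∃ g : G, orderOf g = r * s := by
  have h1 : orderOf (z ^ (orderOf z / r)) = r := orderOf_pow_orderOf_div hz0 hz
  have h2 : orderOf (t ^ (orderOf t / s)) = s := orderOf_pow_orderOf_div ht0 ht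
  refine ⟨z ^ (orderOf z / r) * t ^ (orderOf t / s), ?_⟩
  rw [(hc.pow_pow _ _).orderOf_mul_eq_mul_orderOf_of_coprime, h1, h2]
  rw [h1, h2]
  exact (Nat.coprime_primes hr hs).2 hrs

/-- An `s`-group normalising an `r`-group, too large to act freely on its centre, gives order `rs`. -/
theorem exists_pq_of_normalize {r s e : ℕ} (hr : r.Prime) (hs : s.Prime) (hrs : r ≠ s)
    (S : Subgroup G) (hS : IsPGroup r S) (hS1 : S ≠ ⊥) (T : Subgroup G) (hT : Nat.card T = s ^ e)
    (hTS : T ≤ normalizer (S : Set G))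
    (h : ∀ j, 1 ≤ j → r ^ j ∣ Nat.card S → ¬ s ^ e ∣ r ^ j - 1) : ∃ g : G, orderOf g = r * s := by
  classical
  haveI := Fact.mk hr
  haveI : Nontrivial S := (Subgroup.nontrivial_iff_ne_bot S).2 hS1
  set Z : Subgroup G := (center S).map S.subtype with hZdef
  have hnorm : ∀ t ∈ T, ∀ z ∈ Z, t * z * t⁻¹ ∈ Z := by
    rintro t ht _ ⟨z, hz, rfl⟩
    have hmem : ∀ x : S, t * (x : G) * t⁻¹ ∈ S := fun x => ((mem_normalizer_iff.1 (hTS ht)) x).1 x.2
    refine ⟨⟨_, hmem z⟩, mem_center_iff.2 fun y => Subtype.ext ?_, rfl⟩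
    have hy : t⁻¹ * (y : G) * t ∈ S := by
      have := ((mem_normalizer_iff.1 (hTS (T.inv_mem ht))) y).1 y.2
      simpa using this
    have h1 : (t⁻¹ * (y : G) * t) * z = z * (t⁻¹ * (y : G) * t) :=
      congrArg Subtype.val (mem_center_iff.1 hz ⟨_, hy⟩)
    show (y : G) * (t * z * t⁻¹) = t * z * t⁻¹ * y
    calc (y : G) * (t * z * t⁻¹) = t * ((t⁻¹ * y * t) * z) * t⁻¹ := by group
      _ = t * ((z : G) * (t⁻¹ * y * t)) * t⁻¹ := by rw [h1]
      _ = _ := by group
  by_cases hfix : ∃ t ∈ T, t ≠ 1 ∧ ∃ z ∈ Z, z ≠ 1 ∧ t * z * t⁻¹ = z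
  · obtain ⟨t, ht, ht1, z, hz, hz1, hc⟩ := hfix
    have hzS : z ∈ S := map_subtype_le _ hz
    have hzr : r ∣ orderOf z := by
      obtain ⟨k, hk⟩ := IsPGroup.iff_orderOf.1 hS ⟨z, hzS⟩
      rw [Subgroup.orderOf_mk] at hk
      rw [hk]
      exact dvd_pow_self r fun h0 => hz1 (orderOf_eq_one_iff.1 (by rw [hk, h0, pow_zero]))
    have hts : s ∣ orderOf t := by
      haveI := Fact.mk hs
      obtain ⟨k, hk⟩ := IsPGroup.iff_orderOf.1 (IsPGroup.of_card hT) ⟨t, ht⟩
      rw [Subgroup.orderOf_mk] at hk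
      rw [hk]
      exact dvd_pow_self s fun h0 => ht1 (orderOf_eq_one_iff.1 (by rw [hk, h0, pow_zero]))
    exact exists_pq_of_commute hr hs hrs hzr hts (mul_inv_eq_iff_eq_mul.1 hc).symm
      (orderOf_pos z).ne' (orderOf_pos t).ne'
  · exfalso
    push Not at hfix
    let X := {z : G // z ∈ Z ∧ z ≠ 1}
    letI : MulAction T X :=
      { smul := fun t z => ⟨(t : G) * z * (t : G)⁻¹, hnorm t t.2 z z.2.1, fun he => z.2.2 (by
          have := congrArg (fun w => (t : G)⁻¹ * w * t) he
          simpa [mul_assoc] using this)⟩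
        one_smul := fun z => Subtype.ext (by show ((1 : T) : G) * z * ((1 : T) : G)⁻¹ = z; simp)
        mul_smul := fun a b z => Subtype.ext (by
          show ((a * b : T) : G) * z * ((a * b : T) : G)⁻¹ = (a : G) * ((b : G) * z * (b : G)⁻¹) * (a : G)⁻¹
          simp [mul_assoc]) }
    have hfree : ∀ x : X, MulAction.stabilizer T x = ⊥ := by
      intro x
      rw [Subgroup.eq_bot_iff_forall]
      intro t ht
      by_contra hne
      exact hfix t t.2 (fun h0 => hne (Subtype.ext h0)) x x.2.1 x.2.2 (congrArg Subtype.val ht)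
    have hX := Nat.card_congr (MulAction.selfEquivOrbitsQuotientProd hfree)
    rw [Nat.card_prod, hT] at hX
    obtain ⟨j, hj⟩ := IsPGroup.iff_card.1 (hS.to_subgroup (center S))
    have hcardZ : Nat.card Z = r ^ j := by rw [hZdef, card_map_of_injective S.subtype_injective, hj]
    have hXZ : Nat.card X = r ^ j - 1 := by
      rw [← hcardZ]
      have e : X ≃ {z : Z // z ≠ 1} :=
        { toFun := fun x => ⟨⟨x.1, x.2.1⟩, fun h0 => x.2.2 (congrArg Subtype.val h0)⟩
          invFun := fun z => ⟨z.1.1, z.1.2, fun h0 => z.2 (Subtype.ext h0)⟩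
          left_inv := fun _ => rfl
          right_inv := fun _ => rfl }
      haveI := Fintype.ofFinite Z
      rw [Nat.card_congr e, Nat.card_eq_fintype_card, Fintype.card_subtype_compl, Fintype.card_subtype_eq,
        Nat.card_eq_fintype_card]
    have hj1 : 1 ≤ j := by
      by_contra h0
      haveI : Nontrivial (center S) := hS.center_nontrivial
      have := Finite.one_lt_card (α := center S)
      rw [hj, show j = 0 by omega, pow_zero] at this
      omega
    exact h j hj1 (hj ▸ card_subgroup_dvd_card (center S))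
      ⟨Nat.card (Quotient (MulAction.orbitRel T X)), by rw [← hXZ, hX, mul_comm]⟩

/-- Frattini version. -/
theorem exists_pq_of_normal {r s e : ℕ} (hr : r.Prime) (hs : s.Prime) (hrs : r ≠ s)
    (N : Subgroup G) [N.Normal] (hrN : r ∣ Nat.card N) (hse : s ^ e ∣ N.index)
    (h : ∀ j, 1 ≤ j → r ^ j ∣ Nat.card N → ¬ s ^ e ∣ r ^ j - 1) : ∃ g : G, orderOf g = r * s := by
  haveI := Fact.mk hr
  haveI := Fact.mk hs
  obtain ⟨S⟩ : Nonempty (Sylow r N) := inferInstance
  set S' : Subgroup G := (S : Subgroup N).map N.subtype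
  have htop := Sylow.normalizer_sup_eq_top S
  have hdvd : N.index ∣ Nat.card (normalizer (S' : Set G)) := by
    have h1 : N.relIndex (normalizer (S' : Set G) ⊔ N) = N.relIndex (normalizer (S' : Set G)) :=
      relIndex_sup_right _ _
    rw [show normalizer (S' : Set G) ⊔ N = ⊤ from htop, relIndex_top_right] at h1
    rw [h1]
    exact relIndex_dvd_card _ _
  obtain ⟨T, hT⟩ := Sylow.exists_subgroup_card_pow_prime (G := normalizer (S' : Set G)) s (n := e)
    (hse.trans hdvd)
  refine exists_pq_of_normalize hr hs hrs S' (S.2.map N.subtype) ?_ 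
    (T.map (normalizer (S' : Set G)).subtype) (by rw [card_map_of_injective (subtype_injective _), hT])
    (map_subtype_le T) fun j hj1 hjd => h j hj1 (hjd.trans ?_)
  · intro h0
    have : (S : Subgroup N) = ⊥ := (map_eq_bot_iff_of_injective _ N.subtype_injective).1 h0
    exact S.ne_bot_of_dvd_card hrN this
  · rw [card_map_of_injective N.subtype_injective]
    exact card_subgroup_dvd_card _

theorem card_normalizer_dvd {p : ℕ} (hp : p.Prime) (P : Subgroup G) (hP : Nat.card P = p) :
    Nat.card (normalizer (P : Set G)) ∣ Nat.card (centralizer (P : Set G)) * (p - 1) := by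
  haveI := Fact.mk hp
  haveI : IsCyclic P := isCyclic_of_prime_card hP
  have h1 := (normalizerMonoidHom P).ker.card_mul_index
  rw [index_ker, normalizerMonoidHom_ker] at h1
  rw [← h1]
  refine Nat.mul_dvd_mul (dvd_of_eq ?_) ?_
  · exact Nat.card_congr (subgroupOfEquivOfLe (centralizer_le_normalizer _)).toEquiv
  · refine (card_subgroup_dvd_card _).trans (dvd_of_eq ?_)
    rw [IsCyclic.card_mulAut, hP, Nat.totient_prime hp]

theorem exists_pq_centralizer {p q : ℕ} (hp : p.Prime) (hq : q.Prime) (hpq : p ≠ q) (P : Subgroup G)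
    (hP : Nat.card P = p) (hd : q ∣ Nat.card (centralizer (P : Set G))) : ∃ g : G, orderOf g = p * q := by
  haveI := Fact.mk hq
  haveI := Fact.mk hp
  obtain ⟨c, hc⟩ := exists_prime_orderOf_dvd_card' q hd
  obtain ⟨x, hx⟩ := exists_prime_orderOf_dvd_card' (G := P) p (hP ▸ dvd_rfl)
  refine exists_pq_of_commute hp hq hpq (z := (x : G)) (t := (c : G)) ?_ ?_ ?_ (orderOf_pos _).ne' (orderOf_pos _).ne'
  · rw [orderOf_coe, hx]
  · rw [orderOf_coe, hc]
  · exact mem_centralizer_iff.1 c.2 x x.2

/-- The Sylow count in a normal subgroup. -/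
theorem card_sylow_mul_dvd_of_normal {p : ℕ} [Fact p.Prime] (P : Sylow p G) (N : Subgroup G) [N.Normal]
    (hPN : (P : Subgroup G) ≤ N) :
    Nat.card (Sylow p G) * Nat.card ↥(normalizer ((P : Subgroup G) : Set G) ⊓ N) = Nat.card N := by
  have htop : normalizer ((P : Subgroup G) : Set G) ⊔ N = ⊤ := Sylow.normalizer_sup_eq_top' P hPN
  set H := normalizer ((P : Subgroup G) : Set G)
  have h1 : N.relIndex H = N.index := by
    rw [← relIndex_sup_right H N, htop, relIndex_top_right]
  have h2 : Nat.card ↥(H ⊓ N) * N.relIndex H = Nat.card H := by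
    rw [← relIndex_bot_left, ← relIndex_bot_left, ← inf_relIndex_left H N]
    exact relIndex_mul_relIndex ⊥ _ H bot_le inf_le_left
  have h3 : Nat.card (Sylow p G) * Nat.card H = Nat.card G := by
    rw [P.card_eq_index_normalizer, mul_comm]
    exact H.card_mul_index
  rw [h1] at h2
  refine Nat.eq_of_mul_eq_mul_right (Nat.pos_of_ne_zero N.index_ne_zero_of_finite) ?_
  rw [mul_assoc, h2, h3, N.card_mul_index]

/-- Burnside complement inside a normal subgroup, normal in the whole group. -/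
theorem exists_normal_complement_inside {p : ℕ} (hp : p.Prime) (N : Subgroup G) [N.Normal] (P : Subgroup G)
    (hP : Nat.card P = p) (hPN : P ≤ N) (hp2 : ¬ p * p ∣ Nat.card N)
    (hc : normalizer (P : Set G) ⊓ N ≤ centralizer (P : Set G)) :
    ∃ M : Subgroup G, M.Normal ∧ M ≤ N ∧ Nat.card M * p = Nat.card N ∧
      ∀ g : G, g ∈ M ↔ g ∈ N ∧ g ^ Nat.card M = 1 := by
  haveI := Fact.mk hp
  have hcard : Nat.card (P.subgroupOf N) = p := by rw [Nat.card_congr (subgroupOfEquivOfLe hPN).toEquiv, hP]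
  have hfac : (Nat.card N).factorization p = 1 := by
    have h1 : p ^ 1 ∣ Nat.card N := by rw [pow_one, ← hP]; exact card_dvd_of_le hPN
    have h2 : ¬ p ^ 2 ∣ Nat.card N := by rwa [pow_two]
    rw [hp.pow_dvd_iff_le_factorization Nat.card_pos.ne'] at h1 h2
    omega
  let Q : Sylow p N := Sylow.ofCard (P.subgroupOf N) (by rw [hcard, hfac, pow_one])
  have hQ : normalizer (Q : Subgroup N) ≤ centralizer (Q : Set N) := by
    intro g hg
    have hg' : g ∈ normalizer ((P.subgroupOf N : Subgroup N) : Set N) := hg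
    have h1 : (g : G) ∈ normalizer (P : Set G) ⊓ N := by
      refine ⟨mem_normalizer_iff.2 fun x => ?_, g.2⟩
      constructor
      · intro hx
        exact ((mem_normalizer_iff.1 hg') ⟨x, hPN hx⟩).1 hx
      · intro hx
        have hxN : x ∈ N := by
          have h0 := N.mul_mem (N.mul_mem (N.inv_mem g.2) (hPN hx)) g.2
          simpa [mul_assoc] using h0
        exact ((mem_normalizer_iff.1 hg') ⟨x, hxN⟩).2 hx
    rw [mem_centralizer_iff]
    intro x hx
    exact Subtype.ext (mem_centralizer_iff.1 (hc h1) x hx)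
  set M₀ := (MonoidHom.transferSylow Q hQ).ker
  have hmul : Nat.card M₀ * p = Nat.card N := by
    have := (MonoidHom.ker_transferSylow_isComplement' Q hQ).card_mul_card
    rwa [show Nat.card Q = p from hcard] at this
  have hnd : ¬ p ∣ Nat.card M₀ := MonoidHom.not_dvd_card_ker_transferSylow Q hQ
  have hmem : ∀ g : N, g ∈ M₀ ↔ g ^ Nat.card M₀ = 1 := by
    intro g
    constructor
    · intro hg
      have h0 : (⟨g, hg⟩ : M₀) ^ Nat.card M₀ = 1 := pow_card_eq_one'
      exact congrArg Subtype.val h0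
    · intro hg
      have hidx : M₀.index = p := by
        have := M₀.card_mul_index
        rw [← hmul] at this
        exact Nat.eq_of_mul_eq_mul_left Nat.card_pos this
      have h1 : (g : N ⧸ M₀) ^ Nat.card (N ⧸ M₀) = 1 := pow_card_eq_one'
      rw [← index_eq_card, hidx] at h1
      have h2 : (g : N ⧸ M₀) ^ Nat.card M₀ = 1 := by rw [← QuotientGroup.mk_pow, hg]; rfl
      have h3 := Nat.dvd_gcd (orderOf_dvd_of_pow_eq_one h1) (orderOf_dvd_of_pow_eq_one h2)
      rw [(hp.coprime_iff_not_dvd.2 hnd : Nat.gcd p (Nat.card M₀) = 1), Nat.dvd_one, orderOf_eq_one_iff,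
        QuotientGroup.eq_one_iff] at h3
      exact h3
  have hcardM : Nat.card (M₀.map N.subtype) = Nat.card M₀ := card_map_of_injective N.subtype_injective
  have hmem' : ∀ g : G, g ∈ M₀.map N.subtype ↔ g ∈ N ∧ g ^ Nat.card (M₀.map N.subtype) = 1 := by
    intro g
    rw [hcardM]
    constructor
    · rintro ⟨x, hx, rfl⟩
      exact ⟨x.2, by simpa using congrArg Subtype.val ((hmem x).1 hx)⟩
    · rintro ⟨hg, hg1⟩
      exact ⟨⟨g, hg⟩, (hmem _).2 (Subtype.ext (by simpa using hg1)), rfl⟩
  refine ⟨M₀.map N.subtype, ⟨fun x hx g => ?_⟩, map_subtype_le _, by rw [hcardM, hmul], hmem'⟩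
  rw [hmem'] at hx ⊢
  exact ⟨(inferInstance : N.Normal).conj_mem x hx.1 g, by rw [conj_pow, hx.2, mul_one, mul_inv_cancel]⟩

end Cfsg.Agent.GraphOrder
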