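import Cfsg.Agent.Lib.GraphOrder.Count7920

/-!
# A group of order 7920 with disconnected prime graph is simple
-/

set_option autoImplicit false

namespace Cfsg.Agent.GraphOrder

open Subgroup

variable {G : Type*} [Group G] [Finite G] (hc : Nat.card G = 7920) {f : ℕ → Bool} (hf : Sep G f)
  [Fact (Nat.Prime 11)] [Fact (Nat.Prime 5)] [Fact (Nat.Prime 3)]

include hc hf

omit [Fact (Nat.Prime 3)] in
theorem conn_five {N : Subgroup G} [N.Normal] (hd : Nat.card N = 990 ∨ Nat.card N = 1980 ∨ Nat.card N = 3960)
    (hn : Nat.card (Sylow 11 G) = 45) :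
    Conn f ∨ (Nat.card N = 3960 ∧ Nat.card (Sylow 5 G) = 396) := by
  obtain ⟨P⟩ : Nonempty (Sylow 11 G) := inferInstance
  obtain ⟨Q⟩ : Nonempty (Sylow 5 G) := inferInstance
  have hP : Nat.card (P : Subgroup G) = 11 := by rw [sylow_card hc (v := 1) (by norm_num) (by norm_num) P, pow_one]
  have hQ : Nat.card (Q : Subgroup G) = 5 := by rw [sylow_card hc (v := 1) (by norm_num) (by norm_num) Q, pow_one]
  have hNP : ∀ P' : Sylow 11 G, Nat.card (normalizer ((P' : Subgroup G) : Set G)) = 176 := fun P' => by
    have := card_normalizer_sylow hc P'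
    rw [hn] at this
    omega
  have hnd := card_normalizer_dvd (by norm_num) (P : Subgroup G) hP
  rw [hNP, show (11 : ℕ) - 1 = 10 from rfl] at hnd
  have h2 : f 11 = f 2 := edge_centralizer hf (by norm_num) Nat.prime_two (by norm_num) _ hP (by omega)
  have hq := card_normalizer_sylow hc Q
  have hqd := card_normalizer_dvd (by norm_num) (Q : Subgroup G) hQ
  rw [show (5 : ℕ) - 1 = 4 from rfl] at hqd
  have hidx : N.index = 7920 / Nat.card N := by
    rw [← hc, ← N.card_mul_index, Nat.mul_div_cancel_left _ Nat.card_pos]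
  have hQN : (Q : Subgroup G) ≤ N := fun g hg => by
    have hg5 : g ^ 5 = 1 := by
      have h0 : (⟨g, hg⟩ : (Q : Subgroup G)) ^ Nat.card (Q : Subgroup G) = 1 := pow_card_eq_one'
      rw [hQ] at h0
      exact congrArg Subtype.val h0
    have h1 : (g : G ⧸ N) ^ Nat.card (G ⧸ N) = 1 := pow_card_eq_one'
    rw [← index_eq_card] at h1
    have h2 : (g : G ⧸ N) ^ 5 = 1 := by rw [← QuotientGroup.mk_pow, hg5]; rfl
    have h3 := Nat.dvd_gcd (orderOf_dvd_of_pow_eq_one h1) (orderOf_dvd_of_pow_eq_one h2)
    rw [show Nat.gcd N.index 5 = 1 by rcases hd with h | h | h <;> rw [hidx, h] <;> norm_num,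
      Nat.dvd_one, orderOf_eq_one_iff, QuotientGroup.eq_one_iff] at h3
    exact h3
  have hx := card_sylow_mul_dvd_of_normal Q N hQN
  have h5x : 5 ∣ Nat.card ↥(normalizer ((Q : Subgroup G) : Set G) ⊓ N) := by
    have := card_dvd_of_le (le_inf (le_normalizer (H := (Q : Subgroup G))) hQN)
    rwa [hQ] at this
  have hedge : ∀ q : ℕ, q.Prime → 5 ≠ q → q ∣ Nat.card (centralizer ((Q : Subgroup G) : Set G)) → f 5 = f q :=
    fun q hqp hne h => edge_centralizer hf (by norm_num) hqp hne _ hQ h
  have hC23 : (2 ∣ Nat.card (centralizer ((Q : Subgroup G) : Set G)) ∧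
      3 ∣ Nat.card (centralizer ((Q : Subgroup G) : Set G))) → Conn f := fun h => by
    have e2 := hedge 2 Nat.prime_two (by norm_num) h.1
    have e3 := hedge 3 Nat.prime_three (by norm_num) h.2
    exact ⟨e2.symm.trans e3, e2.symm, h2.symm⟩
  have hC311 : (11 ∣ Nat.card (centralizer ((Q : Subgroup G) : Set G)) ∧
      3 ∣ Nat.card (centralizer ((Q : Subgroup G) : Set G))) → Conn f := fun h => by
    have e11 := hedge 11 (by norm_num) (by norm_num) h.1
    have e3 := hedge 3 Nat.prime_three (by norm_num) h.2
    exact ⟨h2.symm.trans (e11.symm.trans e3), h2.symm.trans e11.symm, h2.symm⟩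
  have hno55 : ¬ 11 ∣ Nat.card (centralizer ((Q : Subgroup G) : Set G)) ∨ Conn f := by
    by_cases h : 11 ∣ Nat.card (centralizer ((Q : Subgroup G) : Set G))
    · exfalso
      obtain ⟨x, hx'⟩ := exists_prime_orderOf_dvd_card' 11 h
      have hx11 : orderOf (x : G) = 11 := by rw [orderOf_coe, hx']
      have hz : IsPGroup 11 (zpowers (x : G)) := IsPGroup.of_card (n := 1) (by rw [Nat.card_zpowers, hx11, pow_one])
      obtain ⟨P', hP'⟩ := hz.exists_le_sylow
      have he : zpowers (x : G) = (P' : Subgroup G) := eq_of_le_of_card_ge hP' (by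
        rw [Nat.card_zpowers, hx11, sylow_card hc (v := 1) (by norm_num) (by norm_num) P', pow_one])
      have hle : (Q : Subgroup G) ≤ normalizer ((P' : Subgroup G) : Set G) := by
        refine le_trans (fun y hy => ?_) (centralizer_le_normalizer _)
        rw [← he, mem_centralizer_iff]
        rintro z ⟨n, rfl⟩
        exact ((Commute.symm (mem_centralizer_iff.1 x.2 y hy : Commute y (x : G))).zpow_left n).eq
      have := card_dvd_of_le hle
      rw [hQ, hNP] at this
      omega
    · exact Or.inl h
  have hn5 := sylow_five_cases (Nat.card (Sylow 5 G)) (Nat.mem_divisors.2 ⟨by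
      have h0 := Q.card_dvd_index
      have h1 := (Q : Subgroup G).card_mul_index
      rw [hQ, hc] at h1
      rwa [show (Q : Subgroup G).index = 1584 by omega] at h0, by norm_num⟩) (card_sylow_modEq_one 5 G)
  simp only [List.mem_cons, List.not_mem_nil, or_false] at hn5
  have key : ∀ K, Nat.card (normalizer ((Q : Subgroup G) : Set G)) = K →
      K ∣ Nat.card (centralizer ((Q : Subgroup G) : Set G)) * 4 := fun K h => h ▸ hqd
  rcases hn5 with e | e | e | e | e | e | e | e <;> rw [e] at hq hx
  · exact Or.inl (conn_sylow_one hc hf (p := 5) (v := 1) (by norm_num) (by norm_num) e (Or.inr (by decide +kernel)))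
  · exact Or.inl (hC23 (by have := key 1320 (by omega); omega))
  · exact Or.inl (hC23 (by have := key 720 (by omega); omega))
  · exact Or.inl (hC311 (by have := key 495 (by omega); omega))
  · rcases hno55 with h | h
    · have := key 220 (by omega); omega
    · exact Or.inl h
  · exact Or.inl (hC23 (by have := key 120 (by omega); omega))
  · rcases hd with h | h | h <;> rw [h] at hx <;> omega
  · rcases hd with h | h | h
    · rw [h] at hx; omega
    · -- a complement of order `396`
      refine Or.inl ?_
      rw [h] at hx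
      obtain ⟨M, hM, -, hMc, -⟩ := exists_normal_complement_inside (by norm_num : Nat.Prime 5) N (Q : Subgroup G) hQ
        hQN (by rw [h]; norm_num) (by
          have h5 : Nat.card ↥(normalizer ((Q : Subgroup G) : Set G) ⊓ N) = 5 := by omega
          rw [← eq_of_le_of_card_ge (le_inf le_normalizer hQN) (by rw [hQ, h5])]
          haveI : IsMulCommutative (Q : Subgroup G) := by
            haveI : IsCyclic (Q : Subgroup G) := isCyclic_of_prime_card hQ
            infer_instance
          intro x hx'
          rw [mem_centralizer_iff]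
          intro y hy
          exact congrArg Subtype.val (mul_comm' (⟨y, hy⟩ : (Q : Subgroup G)) ⟨x, hx'⟩))
      haveI := hM
      exact conn_of_good hc hf M (by rw [show Nat.card M = 396 by omega]; decide +kernel)
    · exact Or.inr ⟨h, e⟩

theorem conn_bad {N : Subgroup G} [N.Normal] (hd : Nat.card N ∈ badList) : Conn f := by
  obtain ⟨P⟩ : Nonempty (Sylow 11 G) := inferInstance
  have hP : Nat.card (P : Subgroup G) = 11 := by rw [sylow_card hc (v := 1) (by norm_num) (by norm_num) P, pow_one]
  have hn := sylow_eleven_cases (Nat.card (Sylow 11 G)) (Nat.mem_divisors.2 ⟨by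
      have h0 := P.card_dvd_index
      have h1 := (P : Subgroup G).card_mul_index
      rw [hP, hc] at h1
      rwa [show (P : Subgroup G).index = 720 by omega] at h0, by norm_num⟩) (card_sylow_modEq_one 11 G)
  have hidx : N.index = 7920 / Nat.card N := by
    rw [← hc, ← N.card_mul_index, Nat.mul_div_cancel_left _ Nat.card_pos]
  simp only [badList, List.mem_cons, List.not_mem_nil, or_false] at hd
  have hPN : (P : Subgroup G) ≤ N := fun g hg => by
    have hg' : g ^ 11 = 1 := by
      have h0 : (⟨g, hg⟩ : (P : Subgroup G)) ^ Nat.card (P : Subgroup G) = 1 := pow_card_eq_one'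
      rw [hP] at h0
      exact congrArg Subtype.val h0
    have h1 : (g : G ⧸ N) ^ Nat.card (G ⧸ N) = 1 := pow_card_eq_one'
    rw [← index_eq_card] at h1
    have h2 : (g : G ⧸ N) ^ 11 = 1 := by rw [← QuotientGroup.mk_pow, hg']; rfl
    have h3 := Nat.dvd_gcd (orderOf_dvd_of_pow_eq_one h1) (orderOf_dvd_of_pow_eq_one h2)
    rw [show Nat.gcd N.index 11 = 1 by
        rcases hd with h | h | h | h | h | h | h | h | h <;> rw [hidx, h] <;> norm_num,
      Nat.dvd_one, orderOf_eq_one_iff, QuotientGroup.eq_one_iff] at h3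
    exact h3
  have hx := card_sylow_mul_dvd_of_normal P N hPN
  have h11x : 11 ∣ Nat.card ↥(normalizer ((P : Subgroup G) : Set G) ⊓ N) := by
    have := card_dvd_of_le (le_inf (le_normalizer (H := (P : Subgroup G))) hPN)
    rwa [hP] at this
  simp only [List.mem_cons, List.not_mem_nil, or_false] at hn
  rcases hn with e | e | e | e
  · exact conn_sylow_one hc hf (p := 11) (v := 1) (by norm_num) (by norm_num) e (Or.inl (by norm_num))
  · exact conn_twelve hc hf e
  · rw [e] at hx
    have h3 : Nat.card N = 990 ∨ Nat.card N = 1980 ∨ Nat.card N = 3960 := by omega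
    rcases conn_five hc hf h3 e with h | ⟨h, h5⟩
    · exact h
    · by_contra hno
      exact Data.false (N := N) (f := f) ⟨hc, hf, hno, inferInstance, h, e, h5⟩
  · rw [e] at hx
    have h4 : Nat.card N = 1584 ∧ Nat.card ↥(normalizer ((P : Subgroup G) : Set G) ⊓ N) = 11 := by omega
    obtain ⟨M, hM, -, hMc, -⟩ := exists_normal_complement_inside (by norm_num : Nat.Prime 11) N (P : Subgroup G) hP
      hPN (by rw [h4.1]; norm_num) (by
        rw [← eq_of_le_of_card_ge (le_inf le_normalizer hPN) (by rw [hP, h4.2])]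
        haveI : IsMulCommutative (P : Subgroup G) := by
          haveI : IsCyclic (P : Subgroup G) := isCyclic_of_prime_card hP
          infer_instance
        intro x hx'
        rw [mem_centralizer_iff]
        intro y hy
        exact congrArg Subtype.val (mul_comm' (⟨y, hy⟩ : (P : Subgroup G)) ⟨x, hx'⟩))
    haveI := hM
    exact conn_of_good hc hf M (by rw [show Nat.card M = 144 by omega]; decide +kernel)

omit [Fact (Nat.Prime 5)] [Fact (Nat.Prime 3)] in
/-- A normal subgroup of order `16` lies in one of order `176` or `720`. -/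
theorem exists_over_sixteen {N : Subgroup G} [N.Normal] (h : Nat.card N = 16) :
    ∃ M : Subgroup G, M.Normal ∧ (Nat.card M = 176 ∨ Nat.card M = 720) := by
  have hQ : Nat.card (G ⧸ N) = 495 := by
    have := N.card_mul_index
    rw [h, hc, index_eq_card] at this
    omega
  obtain ⟨M', hM', hcard⟩ : ∃ M' : Subgroup (G ⧸ N), M'.Normal ∧ (Nat.card M' = 11 ∨ Nat.card M' = 45) := by
    obtain ⟨P⟩ : Nonempty (Sylow 11 (G ⧸ N)) := inferInstance
    have hP : Nat.card (P : Subgroup (G ⧸ N)) = 11 := by
      rw [show Nat.card (P : Subgroup (G ⧸ N)) = _ from P.card_eq_multiplicity, hQ]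
      have h1 : 11 ^ 1 ∣ 495 := by norm_num
      have h2 : ¬ 11 ^ 2 ∣ 495 := by norm_num
      rw [(Fact.out : Nat.Prime 11).pow_dvd_iff_le_factorization (by norm_num)] at h1 h2
      rw [show (495 : ℕ).factorization 11 = 1 by omega, pow_one]
    have hH : Nat.card (Sylow 11 (G ⧸ N)) * Nat.card (normalizer ((P : Subgroup (G ⧸ N)) : Set (G ⧸ N))) = 495 := by
      rw [P.card_eq_index_normalizer, mul_comm]
      exact (card_mul_index _).trans hQ
    have h11 : 11 ∣ Nat.card (normalizer ((P : Subgroup (G ⧸ N)) : Set (G ⧸ N))) := by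
      have := card_dvd_of_le (le_normalizer (H := (P : Subgroup (G ⧸ N))))
      rwa [hP] at this
    have hmod : Nat.card (Sylow 11 (G ⧸ N)) % 11 = 1 := card_sylow_modEq_one 11 (G ⧸ N)
    obtain ⟨c, hc'⟩ := h11
    have h45 : Nat.card (Sylow 11 (G ⧸ N)) ∣ 45 := ⟨c, by rw [hc'] at hH; linarith [hH]⟩
    have hn : Nat.card (Sylow 11 (G ⧸ N)) = 1 ∨ Nat.card (Sylow 11 (G ⧸ N)) = 45 := by
      have := Nat.le_of_dvd (by norm_num) h45
      generalize Nat.card (Sylow 11 (G ⧸ N)) = n at h45 hmod this
      interval_cases n <;> simp_all (config := {decide := true})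
    rcases hn with e | e <;> rw [e] at hH
    · refine ⟨(P : Subgroup (G ⧸ N)), ?_, Or.inl hP⟩
      rw [← normalizer_eq_top_iff]
      apply Subgroup.eq_top_of_card_eq
      rw [hQ]; omega
    · obtain ⟨M, hM, -, hMc, -⟩ := exists_normal_complement_inside (by norm_num : Nat.Prime 11) (⊤ : Subgroup (G ⧸ N))
        (P : Subgroup (G ⧸ N)) hP le_top (by rw [card_top, hQ]; norm_num) (by
          rw [inf_top_eq, ← eq_of_le_of_card_ge (le_normalizer (H := (P : Subgroup (G ⧸ N)))) (by rw [hP]; omega)]
          haveI : IsMulCommutative (P : Subgroup (G ⧸ N)) := by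
            haveI : IsCyclic (P : Subgroup (G ⧸ N)) := isCyclic_of_prime_card hP
            infer_instance
          intro x hx'
          rw [mem_centralizer_iff]
          intro y hy
          exact congrArg Subtype.val (mul_comm' (⟨y, hy⟩ : (P : Subgroup (G ⧸ N))) ⟨x, hx'⟩))
      rw [card_top, hQ] at hMc
      exact ⟨M, hM, Or.inr (by omega)⟩
  haveI := hM'
  refine ⟨M'.comap (QuotientGroup.mk' N), inferInstance, ?_⟩
  have h1 := (M'.comap (QuotientGroup.mk' N)).card_mul_index
  rw [index_comap_of_surjective M' (QuotientGroup.mk'_surjective N), hc] at h1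
  have h2 := M'.card_mul_index
  rw [hQ] at h2
  rcases hcard with e | e <;> rw [e] at h2
  · exact Or.inl (by rw [show M'.index = 45 by omega] at h1; omega)
  · exact Or.inr (by rw [show M'.index = 11 by omega] at h1; omega)

theorem conn_of_normal {N : Subgroup G} [N.Normal] (h1 : Nat.card N ≠ 1) (h2 : Nat.card N ≠ 7920) : Conn f := by
  rcases divisor_cases _ (Nat.mem_divisors.2 ⟨hc ▸ card_subgroup_dvd_card N, by norm_num⟩) with h | h | h | h | h | h
  · exact absurd h h1
  · exact absurd h h2
  · exact conn_eleven hc hf N h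
  · obtain ⟨M, hM, hcard⟩ := exists_over_sixteen hc hf h
    haveI := hM
    rcases hcard with e | e
    · exact conn_bad hc hf (N := M) (by rw [e]; decide)
    · exact conn_of_good hc hf M (by rw [e]; decide +kernel)
  · exact conn_bad hc hf h
  · exact conn_of_good hc hf N h

end Cfsg.Agent.GraphOrder
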